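import Cfsg.Agent.Lib.TensorMax63.Setting

/-!
The tensor product of a three-dimensional and a four-dimensional orthogonal space of minus type: contractions
and the embedding of the product of the isometry groups.
-/

set_option autoImplicit false
set_option linter.unusedSectionVars false

namespace CfsgLib.TensorMinus

open Matrix QuadraticMap CfsgLib.Orth CfsgLib.TensorMax63
open CfsgLib.GeomClasses (OrthTools.orth OrthTools.mem_orth)

variable {ι : Type} [Fintype ι] [DecidableEq ι] {F : Type*} [Field F] [Fintype F]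

/-- The tensor product of an orthogonal space of dimension three and one of dimension four, of minus type. -/
structure Data (q : QuadraticForm F (ι → F)) (q₁ : QuadraticForm F (Fin 3 → F))
    (q₂ : QuadraticForm F (Fin 4 → F)) where
  /-- the pure tensors -/
  τ : (Fin 3 → F) →ₗ[F] (Fin 4 → F) →ₗ[F] (ι → F)
  two : (2 : F) ≠ 0
  five : 5 ≤ Fintype.card F
  nd : q.polarBilin.Nondegenerate
  nd₁ : q₁.polarBilin.Nondegenerate
  nd₂ : q₂.polarBilin.Nondegenerate
  card_ι : Fintype.card ι = 12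
  polar_τ : ∀ a b a' b', polar q (τ a b) (τ a' b') = polar q₁ a a' * polar q₂ b b'
  span : Submodule.span F (Set.range fun p : (Fin 3 → F) × (Fin 4 → F) => τ p.1 p.2) = ⊤
  minus : ∀ U : Submodule F (Fin 4 → F), Module.finrank F U = 2 → ∃ x ∈ U, q₂ x ≠ 0

variable {q : QuadraticForm F (ι → F)} {q₁ : QuadraticForm F (Fin 3 → F)}
  {q₂ : QuadraticForm F (Fin 4 → F)} (X : Data q q₁ q₂)

namespace Data

/-- Contraction of the right factor with `φ`. -/
noncomputable def C (φ : Fin 4 → F) : (ι → F) →ₗ[F] (Fin 3 → F) :=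
  (toVec X.nd₁).comp (LinearMap.compl₂ q.polarBilin ((LinearMap.flip X.τ) φ))

theorem polar_C (φ : Fin 4 → F) (z : ι → F) (a : Fin 3 → F) :
    polar q₁ (X.C φ z) a = polar q z (X.τ a φ) := by
  rw [C, LinearMap.comp_apply, polar_toVec]
  rfl

theorem C_τ (φ : Fin 4 → F) (a : Fin 3 → F) (b : Fin 4 → F) :
    X.C φ (X.τ a b) = polar q₂ b φ • a := by
  refine ext_polar X.nd₁ fun a' => ?_
  rw [polar_C, X.polar_τ, polar_smul_left, smul_eq_mul, mul_comm]

theorem C_add (φ ψ : Fin 4 → F) (z : ι → F) : X.C (φ + ψ) z = X.C φ z + X.C ψ z := by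
  refine ext_polar X.nd₁ fun a => ?_
  rw [polar_add_left, polar_C, polar_C, polar_C, map_add, polar_add_right]

theorem C_smul (t : F) (φ : Fin 4 → F) (z : ι → F) : X.C (t • φ) z = t • X.C φ z := by
  refine ext_polar X.nd₁ fun a => ?_
  rw [polar_smul_left, polar_C, polar_C, map_smul, polar_smul_right]

theorem C_sub (φ ψ : Fin 4 → F) (z : ι → F) : X.C (φ - ψ) z = X.C φ z - X.C ψ z := by
  refine ext_polar X.nd₁ fun a => ?_
  rw [polar_sub_left, polar_C, polar_C, polar_C, map_sub, polar_sub_right]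

theorem C_zero (z : ι → F) : X.C 0 z = 0 := by
  refine ext_polar X.nd₁ fun a => ?_
  rw [polar_C, map_zero, polar_zero_right, polar_zero_left]

theorem eq_zero {z : ι → F} (h : ∀ φ, X.C φ z = 0) : z = 0 := by
  refine eq_zero_of_polar X.nd fun y => ?_
  have hy : y ∈ (⊤ : Submodule F (ι → F)) := trivial
  rw [← X.span] at hy
  induction hy using Submodule.span_induction with
  | mem y hy =>
    obtain ⟨⟨a, b⟩, rfl⟩ := hy
    show polar q z (X.τ a b) = 0
    rw [← X.polar_C, h, polar_zero_left]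
  | zero => exact polar_zero_right _ _
  | add x y _ _ hx hy => rw [polar_add_right, hx, hy, add_zero]
  | smul t x _ hx => rw [polar_smul_right, hx, smul_zero]

theorem ext_τ {M : Type*} [AddCommGroup M] [Module F M] {f g : (ι → F) →ₗ[F] M}
    (h : ∀ a b, f (X.τ a b) = g (X.τ a b)) : f = g :=
  LinearMap.ext_on_range X.span fun p => h p.1 p.2

theorem τ_inj_left {b : Fin 4 → F} (hb : b ≠ 0) {a : Fin 3 → F} (h : X.τ a b = 0) : a = 0 := by
  obtain ⟨φ, hφ⟩ := exists_polar_eq_one X.nd₂ hb
  have := X.C_τ φ a b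
  rwa [h, map_zero, hφ, one_smul, eq_comm] at this

theorem τ_inj_right {a : Fin 3 → F} (ha : a ≠ 0) {b : Fin 4 → F} (h : X.τ a b = 0) : b = 0 := by
  by_contra hb
  exact ha (X.τ_inj_left hb h)

theorem q_τ (a : Fin 3 → F) (b : Fin 4 → F) : q (X.τ a b) = 2 * q₁ a * q₂ b := by
  have h := X.polar_τ a b a b
  rw [polar_self', polar_self', polar_self'] at h
  refine mul_left_cancel₀ X.two ?_
  linear_combination h

theorem q_τ_singular (a : Fin 3 → F) {b : Fin 4 → F} (hb : q₂ b = 0) : q (X.τ a b) = 0 := by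
  rw [X.q_τ, hb, mul_zero]

/-- The tensor product of two linear maps. -/
noncomputable def lift (L : (Fin 3 → F) →ₗ[F] (Fin 3 → F)) (M : (Fin 4 → F) →ₗ[F] (Fin 4 → F)) :
    (ι → F) →ₗ[F] (ι → F) :=
  ∑ j : Fin 4, ((LinearMap.flip X.τ) (M (Pi.single j 1))).comp
    (L.comp (X.C (toVec X.nd₂ (LinearMap.proj j))))

theorem lift_τ (L : (Fin 3 → F) →ₗ[F] (Fin 3 → F)) (M : (Fin 4 → F) →ₗ[F] (Fin 4 → F))
    (a : Fin 3 → F) (b : Fin 4 → F) : X.lift L M (X.τ a b) = X.τ (L a) (M b) := by
  conv_rhs => rw [pi_eq_sum_univ' b, map_sum, map_sum]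
  rw [lift, LinearMap.sum_apply]
  refine Finset.sum_congr rfl fun j _ => ?_
  rw [LinearMap.comp_apply, LinearMap.comp_apply, LinearMap.flip_apply, X.C_τ, polar_comm, polar_toVec,
    LinearMap.proj_apply, map_smul, map_smul, LinearMap.smul_apply, map_smul, map_smul]

theorem q_of_polar {f : (ι → F) →ₗ[F] (ι → F)}
    (h : ∀ a b a' b', polar q (f (X.τ a b)) (f (X.τ a' b')) = polar q (X.τ a b) (X.τ a' b')) (z : ι → F) :
    q (f z) = q z := by
  have h1 : ∀ a b z, polar q (f (X.τ a b)) (f z) = polar q (X.τ a b) z := by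
    intro a b
    have := X.ext_τ (f := (q.polarBilin (f (X.τ a b))).comp f) (g := q.polarBilin (X.τ a b)) fun a' b' => h a b a' b'
    exact fun z => LinearMap.congr_fun this z
  have h3 : (q.polarBilin.flip (f z)).comp f = q.polarBilin.flip z := X.ext_τ fun a b => h1 a b z
  have h4 := LinearMap.congr_fun h3 z
  simp only [LinearMap.comp_apply, LinearMap.flip_apply, polarBilin_apply_apply, polar_self'] at h4
  exact mul_left_cancel₀ X.two h4

/-- The isometry `a ⊗ b`. -/
noncomputable def mkT (a : O q₁) (b : O q₂) : O q :=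
  mkO (X.lift (app a) (app b)) (X.lift (app a⁻¹) (app b⁻¹))
    (X.ext_τ fun x y => by
      simp [LinearMap.comp_apply, X.lift_τ, app_app_inv])
    (X.ext_τ fun x y => by
      simp [LinearMap.comp_apply, X.lift_τ, app_inv_app])
    (X.q_of_polar fun x y x' y' => by
      simp [X.lift_τ, X.polar_τ])

theorem app_mkT (a : O q₁) (b : O q₂) (x : Fin 3 → F) (y : Fin 4 → F) :
    app (X.mkT a b) (X.τ x y) = X.τ (app a x) (app b y) := by
  rw [mkT, app_mkO, X.lift_τ]

theorem ext_O {g h : O q} (H : ∀ a b, app g (X.τ a b) = app h (X.τ a b)) : g = h :=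
  ext_app fun x => LinearMap.congr_fun (X.ext_τ H) x

/-- The embedding of the product of the two isometry groups. -/
noncomputable def emb : O q₁ × O q₂ →* O q where
  toFun p := X.mkT p.1 p.2
  map_one' := X.ext_O fun a b => by rw [X.app_mkT]; simp
  map_mul' p p' := X.ext_O fun a b => by simp [X.app_mkT]

@[simp] theorem app_emb (p : O q₁ × O q₂) (x : Fin 3 → F) (y : Fin 4 → F) :
    app (X.emb p) (X.τ x y) = X.τ (app p.1 x) (app p.2 y) := X.app_mkT _ _ x y

/-- The isometries preserving the decomposition. -/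
noncomputable def T : Subgroup (O q) := X.emb.range

/-- The tensor stabiliser inside `Ω`. -/
noncomputable def H : Subgroup (O q) := X.T ⊓ commutator (O q)

theorem emb_mem_T (p : O q₁ × O q₂) : X.emb p ∈ X.T := ⟨p, rfl⟩

theorem C_emb (p : O q₁ × O q₂) (φ : Fin 4 → F) (z : ι → F) :
    X.C φ (app (X.emb p) z) = app p.1 (X.C (app p.2⁻¹ φ) z) := by
  have h : (X.C φ).comp (app (X.emb p)) = (app p.1).comp (X.C (app p.2⁻¹ φ)) := X.ext_τ fun a b => by
    rw [LinearMap.comp_apply, LinearMap.comp_apply, X.app_emb, X.C_τ, X.C_τ, map_smul,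
      ← polar_app p.2 b, app_app_inv]
  exact LinearMap.congr_fun h z

end Data

end CfsgLib.TensorMinus
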