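import Cfsg.Agent.Lib.TensorMinus.Slice
import Cfsg.Agent.Lib.TensorMax63.Good
import Cfsg.Agent.Lib.Coprime.HyperplaneGeneration

/-!
The centraliser in an overgroup of a half turn of the left factor preserves the decomposition.
-/

set_option autoImplicit false
set_option linter.unusedSectionVars false
set_option linter.unusedSimpArgs false

namespace CfsgLib.TensorMinus

open Matrix QuadraticMap CfsgLib.Orth CfsgLib.TensorMax63
open CfsgLib.GeomClasses (OrthTools.orth OrthTools.mem_orth)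

variable {ι : Type} [Fintype ι] [DecidableEq ι] {F : Type*} [Field F] [Fintype F] [DecidableEq F]
  {q : QuadraticForm F (ι → F)} {q₁ : QuadraticForm F (Fin 3 → F)}
  {q₂ : QuadraticForm F (Fin 4 → F)} (X : Data q q₁ q₂) {M : Subgroup (O q)}

namespace Data

theorem tau_ne {a : Fin 3 → F} {b : Fin 4 → F} (ha : a ≠ 0) (hb : b ≠ 0) : X.τ a b ≠ 0 := fun h =>
  hb (X.τ_inj_right ha h)

theorem left_eq_one {p : ℕ} [CharP F p] [Fact p.Prime] {a : O q₁} {u : Fin 3 → F} (hu : q₁ u ≠ 0)
    (ha : detHom q₁ a = 1) (hc : a * X.half u = X.half u * a) (hp : a ^ p = 1) : a = 1 := by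
  have hu0 : u ≠ 0 := fun h => hu (by rw [h, QuadraticMap.map_zero])
  have h1 : app (X.half u) (app a u) = app a u := by
    rw [← app_mul, ← hc, app_mul, X.app_half, polar_self']
    congr 1
    match_scalars <;> field_simp <;> ring
  set c := (2 * q₁ u)⁻¹ * polar q₁ (app a u) u with hcdef
  have hau : app a u = c • u := by
    rw [X.app_half, sub_eq_iff_eq_add, ← two_smul F (app a u)] at h1
    have := congrArg (fun x => (2 : F)⁻¹ • x) h1.symm
    simp only [smul_smul, inv_mul_cancel₀ X.two, one_smul] at this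
    rw [this, hcdef, mul_inv, mul_assoc]
  have hpow : ∀ k : ℕ, app (a ^ k) u = c ^ k • u := fun k => by
    induction k with
    | zero => rw [pow_zero, pow_zero, app_one, one_smul]
    | succ k ih => rw [pow_succ, app_mul, hau, map_smul, ih, smul_smul, pow_succ, mul_comm]
  have hc1 : c = 1 := by
    have h := hpow p
    rw [hp, app_one, eq_comm, ← sub_eq_zero] at h
    have h' : (c ^ p - 1) • u = 0 := by rw [sub_smul, one_smul]; exact h
    rw [← one_pow p, ← sub_pow_char, smul_eq_zero] at h'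
    exact sub_eq_zero.1 (eq_zero_of_pow_eq_zero (h'.resolve_right hu0))
  rw [hc1, one_smul] at hau
  set N : Module.End F (Fin 3 → F) := app a - 1 with hN
  have hinv : ∀ x, polar q₁ x u = 0 → polar q₁ (N x) u = 0 := fun x hx => by
    show polar q₁ (app a x - x) u = 0
    conv_lhs => rw [polar_sub_left, hx, ← hau, polar_app, hx, sub_zero]
  have key : ∀ k : ℕ, ∀ x, polar q₁ x u = 0 → x ≠ 0 → (N ^ k) x = 0 →
      ∃ v, polar q₁ v u = 0 ∧ v ≠ 0 ∧ N v = 0 := by
    intro k
    induction k with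
    | zero => intro x _ hx h; exact absurd h hx
    | succ k ih =>
      intro x hxu hx h
      by_cases h' : N x = 0
      · exact ⟨x, hxu, hx, h'⟩
      · exact ih _ (hinv x hxu) h' (by rwa [pow_succ] at h)
  have happ : ∀ k : ℕ, (app a : Module.End F (Fin 3 → F)) ^ k = app (a ^ k) := fun k => by
    induction k with
    | zero => exact LinearMap.ext fun x => by simp
    | succ k ih => rw [pow_succ, ih]; exact LinearMap.ext fun x => by rw [pow_succ, app_mul]; rfl
  have hNp : N ^ p = 0 := by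
    haveI : CharP (Module.End F (Fin 3 → F)) p :=
      charP_of_injective_algebraMap (algebraMap F (Module.End F (Fin 3 → F))).injective p
    rw [hN, sub_pow_char_of_commute (p := p) (Commute.one_right _), happ, hp, one_pow, sub_eq_zero]
    exact LinearMap.ext fun x => app_one x
  obtain ⟨x, hx, hqx⟩ := exists_aniso (nondeg_inf X.two (nondeg_top X.nd₁) trivial hu) fun h => by
    have h1 := finrank_inf_ge X.nd₁ (⊤ : Submodule F (Fin 3 → F)) u
    rw [h, finrank_bot, finrank_top, Module.finrank_fin_fun] at h1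
    omega
  obtain ⟨v, hvu, hv0, hNv⟩ := key p x (by rw [polar_comm]; exact mem_orth_one.1 hx.2)
    (fun h => hqx (by rw [h, QuadraticMap.map_zero])) (by rw [hNp]; rfl)
  have hav : app a v = v := sub_eq_zero.1 hNv
  refine eq_one_of_fix X.nd₁ X.two ha ?_
  have hli : LinearIndependent F ![u, v] := by
    rw [LinearIndependent.pair_iff]
    intro s t hst
    have h := congrArg (fun z => polar q₁ z u) hst
    simp only [polar_add_left, polar_smul_left, hvu, polar_self', polar_zero_left, smul_eq_mul, mul_zero,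
      add_zero, mul_eq_zero, X.two, hu, or_false] at h
    rw [h, zero_smul, zero_add, smul_eq_zero] at hst
    exact ⟨h, hst.resolve_right hv0⟩
  have hle : Submodule.span F (Set.range ![u, v]) ≤ fixS a := Submodule.span_le.2 (by
    rintro _ ⟨i, rfl⟩
    fin_cases i
    · exact mem_fixS.2 hau
    · exact mem_fixS.2 hav)
  have h := Submodule.finrank_mono hle
  rw [finrank_span_eq_card hli] at h
  simp only [Fintype.card_fin] at h ⊢
  omega

/-- The pure root element. -/
noncomputable def root (w b : Fin 4 → F) : O q := X.emb (1, eich q₂ w b)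

theorem root_mem (hO : X.Over M) {w w' b : Fin 4 → F} (P : Hyp q₂ w w') (hb : b ∈ mid q₂ w w') :
    X.root w b ∈ M :=
  hO.le (X.right_mem (eich_mem_commutator X.nd₂ X.two P.q₁ (mem_mid.1 hb).1))

theorem root_pow {p : ℕ} [CharP F p] {w w' b : Fin 4 → F} (P : Hyp q₂ w w') (hb : b ∈ mid q₂ w w') :
    X.root w b ^ p = 1 := by
  rw [root, ← map_pow, Prod.pow_mk, one_pow, eich_pow P.q₁ (mem_mid.1 hb).1, CharP.cast_eq_zero, zero_smul,
    ← zero_smul F w, eich_smul_self P.q₁, Prod.mk_one_one, map_one]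

theorem root_sq {w w' b : Fin 4 → F} (P : Hyp q₂ w w') (hb : b ∈ mid q₂ w w') (z : ι → F) :
    app (X.root w b) (app (X.root w b) z - z) - (app (X.root w b) z - z) =
      -(2 * q₂ b) • X.τ (X.C w z) w := by
  obtain ⟨hwb, -⟩ := mem_mid.1 hb
  have hd : app (X.root w b) z - z = X.τ (X.C w z) b + X.τ (-(X.C b z) - q₂ b • X.C w z) w := by
    rw [root, X.app_R P.q₁ hwb]; abel
  rw [hd, root, X.app_R P.q₁ hwb]
  simp only [map_add, X.C_τ, P.self₁, polar_self', hwb, polar_comm (f := ⇑q₂) b w, zero_smul, add_zero, map_zero,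
    LinearMap.zero_apply, smul_zero, sub_zero, map_neg, LinearMap.neg_apply, map_smul, LinearMap.smul_apply]
  module

/-- An element of the centraliser of a root element preserves the decomposition. -/
theorem cent_root (hO : X.Over M) {w w' b : Fin 4 → F} (P : Hyp q₂ w w') (hb : b ∈ mid q₂ w w') (hb0 : b ≠ 0)
    {g : O q} (hgM : g ∈ M) (hc : g * X.root w b = X.root w b * g) : g ∈ X.T := by
  refine X.slice hO P.q₁ P.ne₁ hgM (v := w) fun x =>
    ⟨X.C w (app g (X.τ x w')), ?_⟩
  have hqb : -(2 * q₂ b) ≠ 0 :=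
    neg_ne_zero.2 (mul_ne_zero X.two fun h => hb0 ((X.mid_spec P).2.2 b hb h))
  have h := X.root_sq P hb (X.τ x w')
  rw [X.C_τ, P.pair', one_smul] at h
  have h' := congrArg (app g) h
  simp only [map_sub, map_smul, ← app_mul g (X.root w b), hc, app_mul (X.root w b) g] at h'
  rw [← map_sub, X.root_sq P hb] at h'
  exact (smul_right_injective _ hqb h').symm

/-- The conjugator of a root element to a pure element centralising a half turn is pure. -/
theorem conj_mem_T (hO : X.Over M) {w w' b : Fin 4 → F} (P : Hyp q₂ w w') (hb : b ∈ mid q₂ w w') (hb0 : b ≠ 0)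
    {u : Fin 3 → F} (hu : q₁ u ≠ 0) {g : O q} (hgM : g ∈ M) (hy : g * X.root w b * g⁻¹ ∈ X.T)
    (hc : g * X.root w b * g⁻¹ * X.emb (X.half u, 1) = X.emb (X.half u, 1) * (g * X.root w b * g⁻¹)) :
    g ∈ X.T := by
  obtain ⟨p, hp⟩ := CharP.exists F
  haveI := hp
  haveI : Fact p.Prime := ⟨CharP.char_is_prime F p⟩
  have hyM : g * X.root w b * g⁻¹ ∈ M := M.mul_mem (M.mul_mem hgM (X.root_mem hO P hb)) (M.inv_mem hgM)
  obtain ⟨a, β, ha, -, hye⟩ := X.exists_eq ⟨hy, hO.omega hyM⟩
  rw [hye, ← map_mul, ← map_mul, Prod.mk_mul_mk, Prod.mk_mul_mk, one_mul, mul_one] at hc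
  have hdet := X.det_half hu
  have hac := (X.emb_inj (by rw [map_mul, ha, hdet, one_mul]) (by rw [map_mul, ha, hdet, one_mul]) hc).1
  have hpw : X.emb (a, β) ^ p = 1 := by
    rw [← hye, conj_pow, X.root_pow P hb, mul_one, mul_inv_cancel]
  rw [← map_pow, Prod.pow_mk] at hpw
  obtain ⟨hap, -⟩ := X.emb_eq_one (by rw [map_pow, ha, one_pow]) hpw
  obtain rfl := X.left_eq_one hu ha hac hap
  have hqb : -(2 * q₂ b) ≠ 0 :=
    neg_ne_zero.2 (mul_ne_zero X.two fun h => hb0 ((X.mid_spec P).2.2 b hb h))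
  set L : (Fin 4 → F) →ₗ[F] (Fin 4 → F) := (app β - LinearMap.id).comp (app β - LinearMap.id) with hL
  -- the image of the square of the movement
  have himg : ∀ (x : Fin 3 → F) (z : Fin 4 → F),
      X.τ x (L z) = app g (-(2 * q₂ b) • X.τ (X.C w (app g⁻¹ (X.τ x z))) w) := by
    intro x z
    rw [← X.root_sq P hb]
    have e : ∀ t, app g (app (X.root w b) t) = app (X.emb (1, β)) (app g t) := fun t => by
      rw [← hye, ← app_mul, ← app_mul]; congr 2; group
    simp only [map_sub, e, app_app_inv, X.app_emb, app_one]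
    simp only [hL, LinearMap.comp_apply, LinearMap.sub_apply, LinearMap.id_apply, map_sub]
  obtain ⟨z, hz⟩ : ∃ z, L z ≠ 0 := by
    by_contra hcon
    push Not at hcon
    obtain ⟨x₀, hx₀⟩ := exists_anisotropic X.nd₁ (by simp)
    have hx : x₀ ≠ 0 := fun h => hx₀ (by rw [h, QuadraticMap.map_zero])
    have hall : ∀ t, app g (-(2 * q₂ b) • X.τ (X.C w t) w) = 0 := by
      intro t
      have : (app g ∘ₗ ((-(2 * q₂ b)) • ((LinearMap.flip X.τ) w).comp (X.C w))) ∘ₗ app g⁻¹ = 0 :=
        X.ext_τ fun x z => by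
          show app g (-(2 * q₂ b) • X.τ (X.C w (app g⁻¹ (X.τ x z))) w) = 0
          rw [← himg, hcon, map_zero]
      have h := LinearMap.congr_fun this (app g t)
      simp only [LinearMap.comp_apply, app_inv_app, LinearMap.zero_apply] at h
      exact h
    have h := hall (X.τ x₀ w')
    rw [X.C_τ, P.pair', one_smul] at h
    exact X.tau_ne hx P.ne₁ ((smul_eq_zero.1 (app_injective g (h.trans (map_zero _).symm))).resolve_left hqb)
  let ψ : (Fin 3 → F) →ₗ[F] (Fin 3 → F) :=
    -(2 * q₂ b) • (X.C w).comp ((app g⁻¹).comp ((LinearMap.flip X.τ) z))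
  have hψ : ∀ x, app g (X.τ (ψ x) w) = X.τ x (L z) := fun x => by
    rw [himg]
    show app g (X.τ (-(2 * q₂ b) • X.C w (app g⁻¹ (X.τ x z))) w) = _
    rw [map_smul, LinearMap.smul_apply]
  have hinj : Function.Injective ψ := fun x x' h => sub_eq_zero.1 (X.τ_inj_left hz (by
    rw [← hψ, map_sub, h, sub_self, map_zero, LinearMap.zero_apply, map_zero]))
  refine X.slice hO P.q₁ P.ne₁ hgM (v := L z) fun x => ?_
  obtain ⟨x', rfl⟩ := LinearMap.surjective_of_injective hinj x
  exact ⟨x', hψ x'⟩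

theorem fix_half {u : Fin 3 → F} (hu : q₁ u ≠ 0) {z : ι → F} (hz : app (X.emb (X.half u, 1)) z = z) :
    z = X.τ u ((2 * q₁ u)⁻¹ • X.D u z) := by
  refine sub_eq_zero.1 (X.eq_zero fun φ => ?_)
  have h := congrArg (X.C φ) hz
  rw [X.C_emb, Prod.fst, Prod.snd, inv_one, app_one, X.app_half, sub_eq_iff_eq_add,
    ← two_smul F (X.C φ z)] at h
  have h' := congrArg (fun x => (2 : F)⁻¹ • x) h
  simp only [smul_smul, inv_mul_cancel₀ X.two, one_smul] at h'
  rw [map_sub, map_smul, map_smul, X.C_τ, smul_smul, X.polar_D, ← X.polar_C, mul_inv, mul_assoc, h', sub_self]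

theorem half_fix {u : Fin 3 → F} (hu : q₁ u ≠ 0) (z : Fin 4 → F) :
    app (X.emb (X.half u, 1)) (X.τ u z) = X.τ u z := by
  rw [X.app_emb, app_one, X.app_half, polar_self']
  congr 2
  match_scalars <;> field_simp <;> ring

include X in
theorem exists_root : ∃ w w', Hyp q₂ w w' ∧ ∃ b ∈ mid q₂ w w', b ≠ 0 := by
  obtain ⟨w, -, hw0, hw⟩ := CfsgLib.GeomClasses.OrthTools.exists_singular X.nd₂ ⊤ (by simp)
  obtain ⟨w', P⟩ := exists_hyp X.nd₂ hw hw0
  exact ⟨w, w', P, Submodule.exists_mem_ne_zero_of_ne_bot (X.mid_spec P).2.1⟩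

/-- An element of `M` fixing the vectors over one left vector preserves the decomposition. -/
theorem fix_mem_T (hO : X.Over M) {u : Fin 3 → F} (hu : q₁ u ≠ 0) {g : O q} (hgM : g ∈ M)
    (hfix : ∀ z, app g (X.τ u z) = X.τ u z) : g ∈ X.T := by
  classical
  obtain ⟨p, hp⟩ := CharP.exists F
  haveI := hp
  haveI : Fact p.Prime := ⟨CharP.char_is_prime F p⟩
  obtain ⟨w, w', P, b₁, hb₁, hb₁0⟩ := X.exists_root
  have hu0 : u ≠ 0 := fun h => hu (by rw [h, QuadraticMap.map_zero])
  let L : Subgroup (O q) :=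
    { carrier := {l | l ∈ M ∧ ∀ z, app l (X.τ u z) = X.τ u z}
      one_mem' := ⟨M.one_mem, fun z => app_one _⟩
      mul_mem' := fun {l l'} hl hl' => ⟨M.mul_mem hl.1 hl'.1, fun z => by rw [app_mul, hl'.2, hl.2]⟩
      inv_mem' := fun {l} hl => ⟨M.inv_mem hl.1, fun z => by conv_lhs => rw [← hl.2 z, app_inv_app]⟩ }
  let ρ : Multiplicative (mid q₂ w w') →* O q :=
    { toFun := fun c => X.root w (Multiplicative.toAdd c : mid q₂ w w').1
      map_one' := by
        show X.root w 0 = 1
        rw [root, ← zero_smul F w, eich_smul_self P.q₁, Prod.mk_one_one, map_one]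
      map_mul' := fun c c' => by
        show X.root w ((Multiplicative.toAdd c : mid q₂ w w').1 + (Multiplicative.toAdd c' : mid q₂ w w').1) = _
        rw [root, root, root, ← map_mul, Prod.mk_mul_mk, one_mul,
          eich_add P.q₁ (mem_mid.1 (Multiplicative.toAdd c).2).1 (mem_mid.1 (Multiplicative.toAdd c').2).1] }
  have hρinj : Function.Injective ρ := (injective_iff_map_eq_one ρ).2 fun c hc => by
    obtain ⟨v, hv, rfl⟩ : ∃ (v : Fin 4 → F) (h : v ∈ mid q₂ w w'), c = Multiplicative.ofAdd ⟨v, h⟩ :=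
      ⟨_, (Multiplicative.toAdd c).2, rfl⟩
    have h : eich q₂ w v = 1 := (X.emb_eq_one (map_one _) hc).2
    have h' := congrArg (fun k => app k w') h
    simp only [app_one, app_eich P.q₁ (mem_mid.1 hv).1, P.pair', polar_comm (f := ⇑q₂) w' v] at h'
    have hv' : polar q₂ v w' = 0 := by rw [polar_comm]; exact (mem_mid.1 hv).2
    have hs := congrArg (fun e => polar q₂ e w') h'
    simp only [polar_add_left, polar_smul_left, P.self₂, P.pair, hv', smul_eq_mul] at hs
    ring_nf at hs
    have hq : q₂ v = 0 := by linear_combination -hs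
    show Multiplicative.ofAdd (⟨v, hv⟩ : mid q₂ w w') = 1
    rw [show (⟨v, hv⟩ : mid q₂ w w') = 0 from Subtype.ext ((X.mid_spec P).2.2 v hv hq)]
    rfl
  set R := ρ.range
  have hRmem : ∀ r ∈ R, ∃ c ∈ mid q₂ w w', r = X.root w c := by
    rintro _ ⟨c, rfl⟩; exact ⟨_, (Multiplicative.toAdd c).2, rfl⟩
  have hR : Cfsg.IsElementaryAbelian p R := by
    refine ⟨inferInstance, fun r hr => ?_⟩
    obtain ⟨c, hc, rfl⟩ := hRmem r hr
    exact X.root_pow P hc
  have hRn : R ≤ Subgroup.normalizer (L : Set (O q)) := by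
    refine Subgroup.le_normalizer_iff.mpr fun r hr l hl => ?_
    obtain ⟨c, hc, rfl⟩ := hRmem r hr
    refine ⟨M.mul_mem (M.mul_mem (X.root_mem hO P hc) hl.1) (M.inv_mem (X.root_mem hO P hc)), fun z => ?_⟩
    rw [app_mul, app_mul, root, ← map_inv, X.app_emb, Prod.inv_mk, inv_one, app_one, hl.2, X.app_emb, app_one,
      app_app_inv]
  have hLT : ∀ l ∈ L, ∀ r ∈ R, r ≠ 1 → l * r = r * l → l ∈ X.T := by
    intro l hl r hr hr1 hc
    obtain ⟨c, hcm, rfl⟩ := hRmem r hr
    exact X.cent_root hO P hcm (fun h => hr1 (by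
      rw [h, root, ← zero_smul F w, eich_smul_self P.q₁, Prod.mk_one_one, map_one])) hl.1 hc
  have hK : ∀ l ∈ L, l ∈ X.T → ∃ a, detHom q₁ a = 1 ∧ app a u = u ∧ l = X.emb (a, 1) := by
    intro l hl hlT
    obtain ⟨a, β, ha, hβ, rfl⟩ := X.exists_eq ⟨hlT, hO.omega hl.1⟩
    have h : ∀ z, X.τ (app a u) (app β z) = X.τ u z := fun z => by rw [← hl.2 z, X.app_emb]
    obtain ⟨e, he⟩ := exists_anisotropic X.nd₂ (by simp)
    have he0 : app β e ≠ 0 := fun h0 => he (by rw [← Q_app β e, h0, QuadraticMap.map_zero])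
    obtain ⟨φ, hφ⟩ := exists_polar_eq_one X.nd₂ he0
    have hau : app a u = polar q₂ e φ • u := by
      have := congrArg (X.C φ) (h e); rwa [X.C_τ, X.C_τ, hφ, one_smul] at this
    set k := polar q₂ e φ
    have hk : k = 1 ∨ k = -1 := by
      have hq := Q_app a u
      rw [hau, QuadraticMap.map_smul, smul_eq_mul] at hq
      exact mul_self_eq_one_iff.1 (mul_right_cancel₀ hu (hq.trans (one_mul _).symm))
    have hβz : ∀ z, k • app β z = z := fun z => by
      have := h z
      rw [hau, map_smul, LinearMap.smul_apply, ← map_smul] at this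
      exact sub_eq_zero.1 (X.τ_inj_right hu0 (by rw [map_sub, this, sub_self]))
    rcases hk with hk | hk <;> rw [hk] at hau hβz
    · refine ⟨a, ha, by rw [hau, one_smul], ?_⟩
      rw [show β = 1 from ext_app fun z => by rw [app_one]; simpa using hβz z]
    · exfalso
      exact X.negB_not_mem (by
        rwa [show negO q₂ = β from ext_app fun z => by
          have := hβz z
          rw [neg_one_smul, neg_eq_iff_eq_neg] at this
          rw [app_negO, this]])
  have hKR : ∀ l ∈ L, l ∈ X.T → ∀ r ∈ R, l * r = r * l := by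
    intro l hl hlT r hr
    obtain ⟨a, -, -, rfl⟩ := hK l hl hlT
    obtain ⟨c, hc, rfl⟩ := hRmem r hr
    rw [root, ← map_mul, ← map_mul, Prod.mk_mul_mk, Prod.mk_mul_mk, one_mul, mul_one, one_mul, mul_one]
  have hr₁ : X.root w b₁ ∈ R := ⟨Multiplicative.ofAdd ⟨b₁, hb₁⟩, rfl⟩
  have hr₁1 : X.root w b₁ ≠ 1 := fun h => hb₁0 (by
    have := hρinj (a₁ := Multiplicative.ofAdd (⟨b₁, hb₁⟩ : mid q₂ w w')) (a₂ := 1) (h.trans (map_one ρ).symm)
    exact congrArg Subtype.val this)
  have hRp : IsPGroup p R := fun r => ⟨1, Subtype.ext (by simpa using hR.2 r r.2)⟩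
  -- the prime of the characteristic does not divide the order
  have hcop : (Nat.card L).Coprime p := by
    letI act : MulAction R L :=
      { smul := fun r l => ⟨r * l * (r : O q)⁻¹, (Subgroup.mem_normalizer_iff.1 (hRn r.2) l).1 l.2⟩
        one_smul := fun l => Subtype.ext (by show (1 : O q) * l * (1 : O q)⁻¹ = l; group)
        mul_smul := fun r s l => Subtype.ext (by
          show (r * s : O q) * l * (r * s : O q)⁻¹ = r * (s * l * (s : O q)⁻¹) * (r : O q)⁻¹; group) }
    have hfp := hRp.card_modEq_card_fixedPoints L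
    let K := L ⊓ Subgroup.centralizer (R : Set (O q))
    have hfK : Nat.card (MulAction.fixedPoints R L) = Nat.card K := Nat.card_congr
      { toFun := fun l => ⟨(l.1 : L), l.1.2, Subgroup.mem_centralizer_iff.2 fun r hr => by
          have h : r * (l.1 : O q) * r⁻¹ = (l.1 : O q) := congrArg Subtype.val (l.2 ⟨r, hr⟩)
          exact mul_inv_eq_iff_eq_mul.1 h⟩
        invFun := fun l => ⟨⟨l, l.2.1⟩, fun r => Subtype.ext (mul_inv_eq_iff_eq_mul.2
          (Subgroup.mem_centralizer_iff.1 l.2.2 r r.2))⟩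
        left_inv := fun l => rfl
        right_inv := fun l => rfl }
    rw [Nat.coprime_comm, (Fact.out : p.Prime).coprime_iff_not_dvd]
    intro hdvd
    rw [hfK] at hfp
    have hKd : p ∣ Nat.card K := Nat.modEq_zero_iff_dvd.1 (hfp.symm.trans (Nat.modEq_zero_iff_dvd.2 hdvd))
    obtain ⟨l, hl⟩ := exists_prime_orderOf_dvd_card' p hKd
    have hlT := hLT l l.2.1 _ hr₁ hr₁1 (Subgroup.mem_centralizer_iff.1 l.2.2 _ hr₁).symm
    obtain ⟨a, ha, hau, hle⟩ := hK l l.2.1 hlT
    have hlp : (l : O q) ^ p = 1 := by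
      rw [← SubgroupClass.coe_pow, ← hl, pow_orderOf_eq_one, OneMemClass.coe_one]
    rw [hle, ← map_pow, Prod.pow_mk, one_pow] at hlp
    have hap := (X.emb_eq_one (by rw [map_pow, ha, one_pow]) hlp).1
    have hcomm : a * X.half u = X.half u * a := ext_app fun x => by
      rw [app_mul, app_mul, X.app_half, X.app_half, map_sub, map_smul, hau]
      conv_rhs => rw [← hau, polar_app, hau]
    obtain rfl := X.left_eq_one hu ha hcomm hap
    rw [show l = 1 from Subtype.ext (by rw [hle, Prod.mk_one_one, map_one]; rfl), orderOf_one] at hl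
    exact (Fact.out : p.Prime).ne_one hl.symm
  have hne : R ≠ ⊥ := fun h => hr₁1 (Subgroup.mem_bot.1 (h ▸ hr₁))
  have hgen := CfsgLib.Coprime39.eq_hyperCent hR hne hcop hRn
  have hle : L ≤ X.T := by
    rw [← hgen]
    refine iSup_le fun B => ?_
    intro l hl
    have hB : (B : Subgroup (O q)) ≠ ⊥ := fun h => by
      have hi := B.2.2
      rw [h, Subgroup.relIndex_bot_left] at hi
      have h1 : Nat.card R = Nat.card (mid q₂ w w') :=
        (Nat.card_congr (MonoidHom.ofInjective hρinj).toEquiv).symm.trans (Nat.card_congr Multiplicative.toAdd)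
      rw [hi, Module.natCard_eq_pow_finrank (K := F), Nat.card_eq_fintype_card] at h1
      have h2 := Nat.pow_le_pow_right (Fintype.card_pos (α := F)) (X.mid_spec P).1
      have h3 : p ≤ Fintype.card F := Nat.le_of_dvd Fintype.card_pos (by
        obtain ⟨n, -, hn⟩ := FiniteField.card F p
        rw [hn]; exact dvd_pow_self p n.pos.ne')
      have h4 := X.five
      nlinarith
    obtain ⟨⟨r, hr⟩, hr1⟩ := Subgroup.ne_bot_iff_exists_ne_one.1 hB
    replace hr1 : r ≠ 1 := fun h => hr1 (Subtype.ext h)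
    exact hLT l hl.1 r (B.2.1 hr) hr1 (Subgroup.mem_centralizer_iff.1 hl.2 r hr).symm
  exact hle ⟨hgM, hfix⟩

/-- The centraliser of a half turn of the left factor preserves the decomposition. -/
theorem cent_half (hO : X.Over M) {u : Fin 3 → F} (hu : q₁ u ≠ 0) {g : O q} (hgM : g ∈ M)
    (hc : g * X.emb (X.half u, 1) = X.emb (X.half u, 1) * g) : g ∈ X.T := by
  obtain ⟨w, w', P, b, hb, hb0⟩ := X.exists_root
  have hu0 : u ≠ 0 := fun h => hu (by rw [h, QuadraticMap.map_zero])
  let β : (Fin 4 → F) →ₗ[F] (Fin 4 → F) := (2 * q₁ u)⁻¹ • (X.D u).comp ((app g).comp (X.τ u))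
  have hgβ : ∀ z, app g (X.τ u z) = X.τ u (β z) := fun z =>
    X.fix_half hu (by rw [← app_mul, ← hc, app_mul, X.half_fix hu])
  have hβq : ∀ z, q₂ (β z) = q₂ z := fun z => by
    have h := Q_app g (X.τ u z)
    rw [hgβ, X.q_τ, X.q_τ] at h
    exact mul_left_cancel₀ (mul_ne_zero X.two hu) h
  have hinj : Function.Injective β := fun z z' h => by
    have h' : app g (X.τ u (z - z')) = 0 := by rw [hgβ, map_sub, h, sub_self, map_zero]
    exact sub_eq_zero.1 (X.τ_inj_right hu0 (app_injective g (by rw [h', map_zero])))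
  set β' : O q₂ := CfsgLib.OrthOmega.ofEquiv (LinearEquiv.ofInjectiveEndo β hinj) fun z => hβq z
  have hβ' : ∀ z, app β' z = β z := fun z =>
    CfsgLib.OrthOmega.app_ofEquiv (Q := q₂) (LinearEquiv.ofInjectiveEndo β hinj) (fun z => hβq z) z
  set x := X.root w b with hx
  set y := g * x * g⁻¹ with hy
  have hyM : y ∈ M := M.mul_mem (M.mul_mem hgM (X.root_mem hO P hb)) (M.inv_mem hgM)
  set k := X.emb (1, β' * eich q₂ w b * β'⁻¹)
  have hk : k ∈ X.H := X.right_mem (by
    rw [eich_conj P.q₁ (mem_mid.1 hb).1]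
    exact eich_mem_commutator X.nd₂ X.two (by rw [Q_app, P.q₁]) (by rw [polar_app, (mem_mid.1 hb).1]))
  have hfix : ∀ z, app (k⁻¹ * y) (X.τ u z) = X.τ u z := fun z => by
    have h1 : app y (X.τ u z) = app k (X.τ u z) := by
      obtain ⟨z, rfl⟩ : ∃ z', app β' z' = z := ⟨app β'⁻¹ z, app_app_inv _ _⟩
      rw [X.app_emb]
      simp only [app_one, app_mul, app_inv_app, hy]
      rw [hβ', ← hgβ, app_inv_app,
        hx, root, X.app_emb, app_one, hgβ, hβ']
    rw [app_mul, h1, app_inv_app]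
  have hyT : y ∈ X.T := by
    rw [show y = k * (k⁻¹ * y) by group]
    exact X.T.mul_mem hk.1 (X.fix_mem_T hO hu (M.mul_mem (M.inv_mem (hO.le hk)) hyM) hfix)
  refine X.conj_mem_T hO P hb hb0 hu hgM hyT ?_
  have hxc : x * X.emb (X.half u, 1) = X.emb (X.half u, 1) * x := by
    rw [hx, root, ← map_mul, ← map_mul, Prod.mk_mul_mk, Prod.mk_mul_mk, one_mul, mul_one, one_mul, mul_one]
  have hc' : Commute g (X.emb (X.half u, 1)) := hc
  exact ((hc'.mul_left hxc).mul_left hc'.inv_left).eq

/-- An element of `M` carrying a half turn into the stabiliser preserves the decomposition. -/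
theorem of_conj_half (hO : X.Over M) {u : Fin 3 → F} (hu : q₁ u ≠ 0) {g : O q} (hgM : g ∈ M)
    (hg : g * X.emb (X.half u, 1) * g⁻¹ ∈ X.T) : g ∈ X.T := by
  set t := X.emb (X.half u, 1) with ht
  have htH : t ∈ X.H := X.left_mem (X.det_half hu)
  have hsM : g * t * g⁻¹ ∈ M := M.mul_mem (M.mul_mem hgM (hO.le htH)) (M.inv_mem hgM)
  have htr : tr t = -4 := by
    rw [ht, X.tr_emb, X.tr_half hu, tr_one, Fintype.card_fin]; norm_num
  have ht2 : t * t = 1 := by
    rw [ht, ← map_mul, Prod.mk_mul_mk, X.half_sq hu, mul_one, Prod.mk_one_one, map_one]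
  have hs2 : g * t * g⁻¹ * (g * t * g⁻¹) = 1 := by
    rw [show g * t * g⁻¹ * (g * t * g⁻¹) = g * (t * t) * g⁻¹ by group, ht2]; group
  have hs1 : g * t * g⁻¹ ≠ 1 := fun h => by
    rw [conj_eq_one_iff] at h
    have h' : X.half u = 1 := (X.emb_eq_one (X.det_half hu) h).1
    have := X.tr_half hu
    rw [h', tr_one, Fintype.card_fin] at this
    exact mul_ne_zero X.two X.two (by linear_combination this)
  rcases X.invol_cases ⟨hg, hO.omega hsM⟩ hs2 hs1 with ⟨u', hu', he, -⟩ | ⟨_, _, _, _, _, _, _, _, h0⟩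
  · obtain ⟨w, w', P, b, hb, hb0⟩ := X.exists_root
    set x := X.root w b with hx
    have hxt : x * t = t * x := by
      rw [hx, root, ht, ← map_mul, ← map_mul, Prod.mk_mul_mk, Prod.mk_mul_mk, one_mul, mul_one, one_mul, mul_one]
    have hyc : g * x * g⁻¹ * X.emb (X.half u', 1) = X.emb (X.half u', 1) * (g * x * g⁻¹) := by
      rw [← he, show g * x * g⁻¹ * (g * t * g⁻¹) = g * (x * t) * g⁻¹ by group, hxt]; group
    exact X.conj_mem_T hO P hb hb0 hu' hgM
      (X.cent_half hO hu' (M.mul_mem (M.mul_mem hgM (X.root_mem hO P hb)) (M.inv_mem hgM)) hyc) hyc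
  · rw [tr_conj, htr] at h0
    exact absurd h0 X.four_ne

end Data

end CfsgLib.TensorMinus
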