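import Cfsg.Agent.Lib.TensorMinus.Basic

/-!
Commuting involutive isometries: adapted orthogonal bases, traces and determinants.
-/

set_option autoImplicit false
set_option linter.unusedSectionVars false
set_option linter.unusedSimpArgs false

namespace CfsgLib.TensorMinus

open Matrix QuadraticMap CfsgLib.Orth CfsgLib.TensorMax63
open CfsgLib.GeomClasses (OrthTools.orth OrthTools.mem_orth)

variable {F : Type*} [Field F] [Fintype F] {n : ℕ} {p : QuadraticForm F (Fin n → F)}

/-- An eigenvector for the sign. -/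
def Eig (g : O p) (v : Fin n → F) : Prop := app g v = v ∨ app g v = -v

/-- The trace of an isometry. -/
noncomputable def tr {κ : Type} [Fintype κ] [DecidableEq κ] {r : QuadraticForm F (κ → F)} (g : O r) : F :=
  LinearMap.trace F (κ → F) (app g)

theorem tr_conj {κ : Type} [Fintype κ] [DecidableEq κ] {r : QuadraticForm F (κ → F)} (g h : O r) :
    tr (g * h * g⁻¹) = tr h := by
  have e1 : app (g * h * g⁻¹) = (app g * app h) * app g⁻¹ := LinearMap.ext fun x => by
    simp [app_mul]
  have e2 : app g⁻¹ * (app g * app h) = app h := LinearMap.ext fun x => by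
    simp [app_inv_app]
  rw [tr, e1, LinearMap.trace_mul_comm, e2, tr]

theorem tr_one {κ : Type} [Fintype κ] [DecidableEq κ] {r : QuadraticForm F (κ → F)} :
    tr (1 : O r) = (Fintype.card κ : F) := by
  rw [tr, show app (1 : O r) = LinearMap.id from LinearMap.ext fun x => app_one x, LinearMap.trace_id,
    Module.finrank_fintype_fun_eq_card]

theorem invol_symm {b : O p} (hb : b * b = 1) (x y : Fin n → F) :
    polar p (app b x) y = polar p x (app b y) := by
  rw [← polar_app b x, ← app_mul, hb, app_one]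

theorem nondeg_inf_invariant {X : Submodule F (Fin n → F)} {b : O p}
    (hX : ∀ x ∈ X, app b x ∈ X) {u : Fin n → F} (hu : Eig b u) :
    ∀ x ∈ X ⊓ OrthTools.orth p (Submodule.span F {u}), app b x ∈ X ⊓ OrthTools.orth p (Submodule.span F {u}) := by
  intro x hx
  refine ⟨hX x hx.1, mem_orth_one.2 ?_⟩
  have h := polar_app b u x
  rw [mem_orth_one.1 hx.2] at h
  rcases hu with hu | hu <;> rw [hu] at h
  · exact h
  · rw [polar_neg_left, neg_eq_zero] at h
    exact h

/-- An anisotropic eigenvector near an anisotropic vector. -/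
theorem exists_eig (h2 : (2 : F) ≠ 0) {b : O p} (hb : b * b = 1) {x : Fin n → F} (hx : p x ≠ 0) :
    ∃ c : F, (c = 1 ∨ c = -1) ∧ p (x + c • app b x) ≠ 0 ∧ Eig b (x + c • app b x) := by
  have hbb : app b (app b x) = x := by rw [← app_mul, hb, app_one]
  by_contra hc
  push Not at hc
  have h1 : p (x + (1 : F) • app b x) = 0 := by
    by_contra h
    exact hc 1 (Or.inl rfl) h (Or.inl (by rw [map_add, map_smul, hbb, one_smul, one_smul, add_comm]))
  have h3 : p (x + (-1 : F) • app b x) = 0 := by
    by_contra h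
    exact hc (-1) (Or.inr rfl) h (Or.inr (by rw [map_add, map_smul, hbb, neg_one_smul, neg_one_smul]; abel))
  rw [QuadraticMap.map_add ⇑p, QuadraticMap.map_smul, polar_smul_right, Q_app, smul_eq_mul, smul_eq_mul] at h1 h3
  exact mul_ne_zero h2 (mul_ne_zero h2 hx) (by linear_combination h1 + h3)

/-- Two commuting involutions have a common orthogonal family of eigenvectors. -/
theorem exists_family (hp : p.polarBilin.Nondegenerate) (h2 : (2 : F) ≠ 0) {b b' : O p} (hb : b * b = 1)
    (hb' : b' * b' = 1) (hcomm : b * b' = b' * b) :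
    ∀ k, ∀ X : Submodule F (Fin n → F), Nondeg p X → (∀ x ∈ X, app b x ∈ X) → (∀ x ∈ X, app b' x ∈ X) →
      k ≤ Module.finrank F X → ∃ v : Fin k → Fin n → F, (∀ i, v i ∈ X ∧ p (v i) ≠ 0 ∧ Eig b (v i) ∧ Eig b' (v i)) ∧
        ∀ i j, i ≠ j → polar p (v i) (v j) = 0 := by
  intro k
  induction k with
  | zero => exact fun X _ _ _ _ => ⟨Fin.elim0, fun i => i.elim0, fun i => i.elim0⟩
  | succ k ih =>
    intro X hX hbX hb'X hk
    obtain ⟨x, hxX, hqx⟩ := exists_aniso hX fun h => by rw [h, finrank_bot] at hk; omega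
    obtain ⟨c, -, hy, hye⟩ := exists_eig h2 hb hqx
    set y := x + c • app b x
    have hyX : y ∈ X := X.add_mem hxX (X.smul_mem _ (hbX x hxX))
    obtain ⟨c', -, hu, hue'⟩ := exists_eig h2 hb' hy
    set u := y + c' • app b' y
    have hcom : ∀ z, app b (app b' z) = app b' (app b z) := fun z => by rw [← app_mul, hcomm, app_mul]
    have hue : Eig b u := by
      rcases hye with h | h
      · exact Or.inl (by rw [map_add, map_smul, hcom, h])
      · exact Or.inr (by rw [map_add, map_smul, hcom, h, map_neg, smul_neg]; simp only [u]; abel)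
    have huX : u ∈ X := X.add_mem hyX (X.smul_mem _ (hb'X y hyX))
    obtain ⟨v, hv, hvo⟩ := ih _ (nondeg_inf h2 hX huX hu) (nondeg_inf_invariant hbX hue)
      (nondeg_inf_invariant hb'X hue') (by have := finrank_inf_ge hp X u; omega)
    refine ⟨Fin.cons u v, Fin.cases ⟨huX, hu, hue, hue'⟩ fun i => ?_, Fin.cases ?_ fun i => Fin.cases ?_ ?_⟩
    · exact ⟨(hv i).1.1, (hv i).2⟩
    · refine Fin.cases (fun h => absurd rfl h) fun j _ => ?_
      simpa using mem_orth_one.1 (hv j).1.2
    · intro _
      rw [Fin.cons_zero, Fin.cons_succ, polar_comm]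
      exact mem_orth_one.1 (hv i).1.2
    · intro j hij
      simpa using hvo i j fun h => hij (h ▸ rfl)

theorem exists_frame_comm [DecidableEq F] (hp : p.polarBilin.Nondegenerate) (h2 : (2 : F) ≠ 0) {b b' : O p} (hb : b * b = 1)
    (hb' : b' * b' = 1) (hcomm : b * b' = b' * b) :
    ∃ f, IsFrame p f ∧ ∀ i, Eig b (f i) ∧ Eig b' (f i) := by
  obtain ⟨v, hv, hvo⟩ := exists_family hp h2 hb hb' hcomm n ⊤ (nondeg_top hp) (fun _ _ => trivial)
    (fun _ _ => trivial) (by rw [finrank_top, Module.finrank_fin_fun])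
  exact ⟨v, ⟨fun i => (hv i).2.1, hvo⟩, fun i => (hv i).2.2⟩

variable {f : Fin n → Fin n → F} (hf : IsFrame p f) (h2 : (2 : F) ≠ 0)
include hf h2

/-- The sign of an eigenvector. -/
theorem eig_ne {b : O p} (i : Fin n) (h : app b (f i) = f i) : app b (f i) ≠ -f i := by
  intro h'
  rw [h, eq_neg_iff_add_eq_zero, ← two_smul F, smul_eq_zero] at h'
  exact hf.ne i (by rw [h'.resolve_left h2, QuadraticMap.map_zero])

theorem ext_frame {b b' : O p} (h : ∀ i, app b (f i) = app b' (f i)) : b = b' := by
  classical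
  refine ext_app fun y => ?_
  rw [hf.sum_eq h2 y, map_sum, map_sum]
  simp only [map_smul, h]

/-- The trace of a diagonal isometry. -/
theorem tr_diag {b : O p} (ε : Fin n → F) (h : ∀ i, app b (f i) = ε i • f i) : tr b = ∑ i, ε i := by
  classical
  have e : app b = ∑ i, ((2 * p (f i))⁻¹ • p.polarBilin.flip (f i)).smulRight (ε i • f i) := by
    refine LinearMap.ext fun y => ?_
    conv_lhs => rw [hf.sum_eq h2 y]
    rw [map_sum, LinearMap.sum_apply]
    refine Finset.sum_congr rfl fun i _ => ?_
    rw [map_smul, h]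
    simp
  rw [tr, e, map_sum]
  refine Finset.sum_congr rfl fun i _ => ?_
  rw [LinearMap.trace_smulRight]
  simp only [LinearMap.smul_apply, LinearMap.flip_apply, map_smul, LinearMap.smul_apply, polarBilin_apply_apply,
    polar_self', smul_eq_mul]
  have := hf.ne i
  field_simp

variable [DecidableEq F]

/-- The spinor value of a diagonal involution. -/
theorem chiPair_diag {d : F} (hd : ¬ IsSquare d) {b : O p} (hb : ∀ i, Eig b (f i)) :
    ∃ s : Finset (Fin n), (∀ i ∈ s, app b (f i) = -f i) ∧ (∀ i, i ∉ s → app b (f i) = f i) ∧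
      chiPair p d b = ∏ i ∈ s, cls (p (f i)) := by
  classical
  set s := Finset.univ.filter fun i => app b (f i) ≠ f i with hs
  have hneg : ∀ i ∈ s, app b (f i) = -f i := fun i hi => (hb i).resolve_left (Finset.mem_filter.1 hi).2
  have hfix : ∀ i, i ∉ s → app b (f i) = f i := fun i hi => by simpa [hs] using hi
  obtain ⟨g, hg, hgz⟩ := exists_prod_refl h2 hd f s (fun i _ => hf.ne i) fun i _ j _ => hf.ortho i j
  refine ⟨s, hneg, hfix, ?_⟩
  suffices b = g by rw [this, hg]
  refine ext_frame hf h2 fun i => ?_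
  rw [hgz]
  by_cases hi : i ∈ s
  · rw [hneg i hi, Finset.sum_eq_single i (fun j _ hj => by rw [hf.ortho i j (Ne.symm hj), mul_zero, zero_smul])
      (fun h => absurd hi h), polar_self', show (p (f i))⁻¹ * (2 * p (f i)) = 2 by
        have := hf.ne i; field_simp]
    module
  · rw [hfix i hi, Finset.sum_eq_zero fun j hj => by
      rw [hf.ortho i j (fun h => hi (h ▸ hj)), mul_zero, zero_smul], sub_zero]

end CfsgLib.TensorMinus
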