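import Cfsg.Agent.Lib.TensorMinus.Cent

/-!
The stabiliser of the tensor decomposition is maximal in `Ω`.
-/

set_option autoImplicit false
set_option linter.unusedSectionVars false
set_option linter.unusedSimpArgs false

namespace CfsgLib.TensorMinus

open Matrix QuadraticMap CfsgLib.Orth CfsgLib.TensorMax63
open CfsgLib.GeomClasses (OrthTools.orth OrthTools.mem_orth)

/-- Two involutions which are not conjugate have a common commuting involution. -/
theorem dihedral {G : Type*} [Group G] [Finite G] {D : Subgroup G} {r s : G} (hr : r ∈ D) (hs : s ∈ D)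
    (r2 : r * r = 1) (s2 : s * s = 1) (hn : ∀ c ∈ D, c * r * c⁻¹ ≠ s) :
    ∃ z ∈ D, z * z = 1 ∧ z ≠ 1 ∧ z * r = r * z ∧ z * s = s * z ∧
      ((∃ c ∈ D, c * r * c⁻¹ = r * z) ∨ ∃ c ∈ D, c * r * c⁻¹ = s * z) := by
  set a := r * s with ha
  have haD : a ∈ D := D.mul_mem hr hs
  have hsra : s = r * a := by rw [ha, ← mul_assoc, r2, one_mul]
  have hrinv : r⁻¹ = r := inv_eq_of_mul_eq_one_right r2
  have hsinv : s⁻¹ = s := inv_eq_of_mul_eq_one_right s2
  have hra : r * a * r⁻¹ = a⁻¹ := by rw [← hsra, hrinv, ha, _root_.mul_inv_rev, hrinv, hsinv]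
  have hpow : ∀ k : ℕ, r * a ^ k = (a ^ k)⁻¹ * r := fun k => by
    rw [← inv_pow, ← hra, conj_pow]; group
  have hc : ∀ j : ℕ, (a ^ j)⁻¹ * r * ((a ^ j)⁻¹)⁻¹ = r * a ^ (2 * j) := fun j => by
    rw [inv_inv, ← hpow, mul_assoc, ← pow_add, two_mul]
  rcases Nat.even_or_odd (orderOf a) with ⟨m, hm⟩ | ⟨j, hj⟩
  · have hpos := orderOf_pos a
    have hz2 : a ^ m * a ^ m = 1 := by rw [← pow_add, ← hm, pow_orderOf_eq_one]
    have hzinv : (a ^ m)⁻¹ = a ^ m := inv_eq_of_mul_eq_one_right hz2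
    have hzr : a ^ m * r = r * a ^ m := by rw [hpow, hzinv]
    refine ⟨a ^ m, D.pow_mem haD m, hz2, ?_, hzr, ?_, ?_⟩
    · exact pow_ne_one_of_lt_orderOf (by omega) (by omega)
    · rw [hsra, ← mul_assoc, hzr, mul_assoc, mul_assoc, ← pow_succ, ← pow_succ']
    · rcases Nat.even_or_odd m with ⟨j, hj⟩ | ⟨j, hj⟩
      · exact Or.inl ⟨(a ^ j)⁻¹, D.inv_mem (D.pow_mem haD j), by rw [hc, hj, two_mul]⟩
      · refine Or.inr ⟨(a ^ (j + 1))⁻¹, D.inv_mem (D.pow_mem haD _), ?_⟩
        rw [hc, hsra, mul_assoc, ← pow_succ', hj]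
        congr 2
  · exfalso
    refine hn _ (D.inv_mem (D.pow_mem haD (j + 1))) ?_
    rw [hc, show 2 * (j + 1) = orderOf a + 1 by omega, pow_succ, pow_orderOf_eq_one, one_mul, ← hsra]

variable {ι : Type} [Fintype ι] [DecidableEq ι] {F : Type*} [Field F] [Fintype F] [DecidableEq F]
  {q : QuadraticForm F (ι → F)} {q₁ : QuadraticForm F (Fin 3 → F)}
  {q₂ : QuadraticForm F (Fin 4 → F)} (X : Data q q₁ q₂) {M : Subgroup (O q)}

theorem lin_ext_frame {n : ℕ} {p : QuadraticForm F (Fin n → F)} {f : Fin n → Fin n → F} (hf : IsFrame p f)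
    (h2 : (2 : F) ≠ 0) {N : Type*} [AddCommGroup N] [Module F N] {L L' : (Fin n → F) →ₗ[F] N}
    (h : ∀ i, L (f i) = L' (f i)) : L = L' :=
  LinearMap.ext fun y => by rw [hf.sum_eq h2 y, map_sum, map_sum]; simp only [map_smul, h]

namespace Data

theorem half_comm {a : O q₁} {u : Fin 3 → F} (hu : Eig a u) : a * X.half u = X.half u * a := by
  have h : a * refl q₁ u * a⁻¹ = refl q₁ u := by
    rw [refl_conj]
    rcases hu with h | h <;> rw [h]
    rw [refl_neg]
  have hneg : a * negO q₁ = negO q₁ * a := ext_app fun x => by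
    rw [app_mul, app_mul, app_negO, app_negO, map_neg]
  rw [Data.half, ← mul_assoc, hneg, mul_assoc, mul_assoc, mul_inv_eq_iff_eq_mul.1 h]

theorem emb_comm {a a' : O q₁} {b b' : O q₂} (ha : a * a' = a' * a) (hb : b * b' = b' * b) :
    X.emb (a, b) * X.emb (a', b') = X.emb (a', b') * X.emb (a, b) := by
  rw [← map_mul, ← map_mul, Prod.mk_mul_mk, Prod.mk_mul_mk, ha, hb]

theorem comm_of_emb {a a' : O q₁} {b b' : O q₂} (ha : detHom q₁ a = 1) (ha' : detHom q₁ a' = 1)
    (h : X.emb (a, b) * X.emb (a', b') = X.emb (a', b') * X.emb (a, b)) : a * a' = a' * a ∧ b * b' = b' * b := by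
  rw [← map_mul, ← map_mul, Prod.mk_mul_mk, Prod.mk_mul_mk] at h
  exact X.emb_inj (by rw [map_mul, ha, ha', one_mul]) (by rw [map_mul, ha, ha', one_mul]) h

theorem tr_t {u : Fin 3 → F} (hu : q₁ u ≠ 0) : tr (X.emb (X.half u, 1)) = -4 := by
  rw [X.tr_emb, X.tr_half hu, tr_one, Fintype.card_fin]; norm_num

theorem t_mul_self {u : Fin 3 → F} (hu : q₁ u ≠ 0) : X.emb (X.half u, 1) * X.emb (X.half u, 1) = 1 := by
  rw [← map_mul, Prod.mk_mul_mk, X.half_sq hu, mul_one, Prod.mk_one_one, map_one]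

theorem emb_sq {a : O q₁} {b : O q₂} (ha : a * a = 1) (hb : b * b = 1) : X.emb (a, b) * X.emb (a, b) = 1 := by
  rw [← map_mul, Prod.mk_mul_mk, ha, hb, Prod.mk_one_one, map_one]

theorem tr_two {a : O q₁} {b : O q₂} (hb : b * b = 1) (hbc : b ∈ commutator (O q₂)) (hb1 : b ≠ 1) :
    tr (X.emb (a, b)) = 0 := by
  rw [X.tr_emb, X.tr_right hb hbc hb1, mul_zero]

/-- An element commuting with two stabiliser involutions with the same right part is pure. -/
theorem same_right (hO : X.Over M) {a a' : O q₁} {b : O q₂} (ha : detHom q₁ a = 1) (ha' : detHom q₁ a' = 1)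
    (ha2 : a * a = 1) (ha2' : a' * a' = 1) (haa : a * a' = a' * a) (hb : b * b = 1) (hne : a ≠ a')
    {g : O q} (hgM : g ∈ M) (h1 : g * X.emb (a, b) = X.emb (a, b) * g)
    (h2 : g * X.emb (a', b) = X.emb (a', b) * g) : g ∈ X.T := by
  obtain ⟨u, hu, he, -⟩ := X.exists_half (a := a * a')
    (by rw [mul_assoc, ← mul_assoc a' a a', ← haa, mul_assoc a a' a', ha2', mul_one, ha2])
    (by rw [map_mul, ha, ha', one_mul]) fun h => hne (by
      rw [← mul_one a, ← ha2', ← mul_assoc, h, one_mul])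
  refine X.cent_half hO hu hgM ?_
  rw [← he, show ((a * a', (1 : O q₂)) : O q₁ × O q₂) = (a, b) * (a', b) by rw [Prod.mk_mul_mk, hb], map_mul]
  exact (Commute.mul_right (h1 : Commute g _) h2).eq

include X in
/-- The involutions of `Ω` commuting with a four-group lie in it. -/
theorem four_group {b b₁ b₂ : O q₂} (hb : b * b = 1) (hbc : b ∈ commutator (O q₂))
    (h₁ : b₁ * b₁ = 1) (h₁c : b₁ ∈ commutator (O q₂)) (h₁1 : b₁ ≠ 1)
    (h₂ : b₂ * b₂ = 1) (h₂c : b₂ ∈ commutator (O q₂)) (h₂1 : b₂ ≠ 1) (h12 : b₁ ≠ b₂)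
    (hc : b₁ * b₂ = b₂ * b₁) (hc₁ : b * b₁ = b₁ * b) (hc₂ : b * b₂ = b₂ * b) :
    b = 1 ∨ b = b₁ ∨ b = b₂ ∨ b = b₁ * b₂ := by
  classical
  by_contra hcon
  push Not at hcon
  obtain ⟨hn0, hn1, hn2, hn3⟩ := hcon
  have h2 := X.two
  obtain ⟨f, hf, hfe⟩ := exists_frame_comm X.nd₂ h2 h₁ h₂ hc
  set L : O q₂ → ((Fin 4 → F) →ₗ[F] (Fin 4 → F)) :=
    fun c => app c + app (c * b₁) + app (c * b₂) + app (c * (b₁ * b₂))
  have htr : ∀ c, LinearMap.trace F (Fin 4 → F) (L c) = tr c + tr (c * b₁) + tr (c * b₂) + tr (c * (b₁ * b₂)) :=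
    fun c => by simp only [L, tr, map_add]
  have h3c : b₁ * b₂ ∈ commutator (O q₂) := Subgroup.mul_mem _ h₁c h₂c
  have h3 : b₁ * b₂ * (b₁ * b₂) = 1 := (show Commute b₁ b₂ from hc).mul_mul_mul_comm b₁ b₂ ▸ by rw [h₁, h₂, one_mul]
  have h31 : b₁ * b₂ ≠ 1 := fun h => h12 (by
    rw [← mul_one b₁, ← h₂, ← mul_assoc, h, one_mul])
  set s := Finset.univ.filter fun i => app b₁ (f i) = f i ∧ app b₂ (f i) = f i with hs
  have hL : ∀ c i, L c (f i) = (if i ∈ s then (4 : F) else 0) • app c (f i) := by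
    intro c i
    simp only [L, LinearMap.add_apply, app_mul]
    rcases (hfe i).1 with e1 | e1 <;> rcases (hfe i).2 with e2 | e2 <;>
      simp only [e1, e2, map_neg, hs, Finset.mem_filter, Finset.mem_univ, true_and, and_self, neg_neg, if_true]
    · match_scalars; norm_num
    all_goals
      rw [if_neg (fun h => by
        have hnf : -f i ≠ f i := fun h' => hf.ne i (by
          rw [neg_eq_iff_add_eq_zero, ← two_smul F, smul_eq_zero] at h'
          rw [h'.resolve_left h2, QuadraticMap.map_zero])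
        first
          | exact hnf h
          | exact hnf h.1
          | exact hnf h.2), zero_smul]
      abel
  have h4 : tr (1 : O q₂) = 4 := by rw [tr_one, Fintype.card_fin]; norm_num
  have hcard : s.card = 1 := by
    have h := htr 1
    rw [one_mul, one_mul, one_mul, h4, X.tr_right h₁ h₁c h₁1, X.tr_right h₂ h₂c h₂1, X.tr_right h3 h3c h31,
      add_zero, add_zero, add_zero] at h
    have he : L 1 = ∑ i ∈ s, ((4 : F) • ((2 * q₂ (f i))⁻¹ • q₂.polarBilin.flip (f i))).smulRight (f i) := by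
      refine lin_ext_frame hf h2 fun i => ?_
      rw [hL, app_one, LinearMap.sum_apply]
      split_ifs with hi
      · rw [Finset.sum_eq_single i (fun j _ hj => by simp [hf.ortho i j (Ne.symm hj)]) (fun h => absurd hi h)]
        have := hf.ne i
        simp [polar_self', smul_smul]
        field_simp
      · rw [zero_smul, Finset.sum_eq_zero fun j hj => by simp [hf.ortho i j (fun h => hi (h ▸ hj))]]
    rw [he, map_sum, Finset.sum_congr rfl (fun i _ => LinearMap.trace_smulRight _ _)] at h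
    have hone : ∀ i ∈ s, ((4 : F) • ((2 * q₂ (f i))⁻¹ • q₂.polarBilin.flip (f i))) (f i) = 4 := fun i _ => by
      have := hf.ne i
      simp [polar_self']
      field_simp
    rw [Finset.sum_congr rfl hone, Finset.sum_const, nsmul_eq_mul] at h
    have h4F : (4 : F) ≠ 0 := by rw [show (4 : F) = 2 * 2 by norm_num]; exact mul_ne_zero h2 h2
    have hs1 : (s.card : F) = 1 := mul_right_cancel₀ h4F (by rw [one_mul]; exact h)
    have hle : s.card ≤ 4 := (Finset.card_le_univ s).trans (by simp)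
    have h4s : s.card ≠ 4 := fun h' => h₁1 (ext_frame hf h2 fun i => by
      have : i ∈ s := by rw [Finset.eq_univ_of_card s (by simpa using h')]; simp
      rw [app_one]; exact (Finset.mem_filter.1 this).2.1)
    interval_cases hk : s.card
    · simp at hs1
    · rfl
    · exact absurd (show (1 : F) = 0 by push_cast at hs1; linear_combination hs1) one_ne_zero
    · exact absurd (show (2 : F) = 0 by push_cast at hs1; linear_combination hs1) h2
    · exact absurd rfl h4s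
  obtain ⟨i₀, hi₀⟩ := Finset.card_eq_one.1 hcard
  have hmem : i₀ ∈ s := by rw [hi₀]; exact Finset.mem_singleton_self _
  obtain ⟨e1, e2⟩ := (Finset.mem_filter.1 hmem).2
  have hbi : ∀ j, j ≠ i₀ → polar q₂ (app b (f i₀)) (f j) = 0 := by
    intro j hj
    have hjs : j ∉ s := fun h => hj (by rwa [hi₀, Finset.mem_singleton] at h)
    have key : ∀ c : O q₂, b * c = c * b → app c (f i₀) = f i₀ → app c (f j) = -f j →
        polar q₂ (app b (f i₀)) (f j) = 0 := by
      intro c hcb hci hcj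
      have h := polar_app c (app b (f i₀)) (f j)
      rw [← app_mul, ← hcb, app_mul, hci, hcj, polar_neg_right, neg_eq_iff_add_eq_zero, ← two_mul] at h
      exact (mul_eq_zero.1 h).resolve_left h2
    rcases (hfe j).1 with g1 | g1
    · rcases (hfe j).2 with g2 | g2
      · exact absurd (Finset.mem_filter.2 ⟨Finset.mem_univ _, g1, g2⟩) hjs
      · exact key b₂ hc₂ e2 g2
    · exact key b₁ hc₁ e1 g1
  obtain ⟨k, hk⟩ : ∃ k, k = (2 * q₂ (f i₀))⁻¹ * polar q₂ (app b (f i₀)) (f i₀) := ⟨_, rfl⟩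
  have hbf : app b (f i₀) = k • f i₀ := by
    conv_lhs => rw [hf.sum_eq h2 (app b (f i₀))]
    rw [Finset.sum_eq_single i₀ (fun j _ hj => by rw [hbi j hj, mul_zero, zero_smul]) (by simp), hk]
  have hinvol : ∀ c : O q₂, c * c = 1 → b * c = c * b → b * c * (b * c) = 1 := fun c hc2 hbc' => by
    rw [(show Commute b c from hbc').symm.mul_mul_mul_comm, hb, hc2, one_mul]
  have hnec : ∀ c : O q₂, c * c = 1 → b ≠ c → b * c ≠ 1 := fun c hc2 hne h => hne (by
    rw [← mul_one b, ← hc2, ← mul_assoc, h, one_mul])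
  have h := htr b
  rw [X.tr_right hb hbc hn0, X.tr_right (hinvol _ h₁ hc₁) (Subgroup.mul_mem _ hbc h₁c) (hnec _ h₁ hn1),
    X.tr_right (hinvol _ h₂ hc₂) (Subgroup.mul_mem _ hbc h₂c) (hnec _ h₂ hn2),
    X.tr_right (hinvol _ h3 ((show Commute b b₁ from hc₁).mul_right hc₂).eq) (Subgroup.mul_mem _ hbc h3c)
      (hnec _ h3 hn3), add_zero, add_zero, add_zero] at h
  have he : L b = ((4 : F) • ((2 * q₂ (f i₀))⁻¹ • q₂.polarBilin.flip (f i₀))).smulRight (k • f i₀) := by
    refine lin_ext_frame hf h2 fun i => ?_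
    rw [hL]
    by_cases hi : i = i₀
    · rw [if_pos (hi ▸ hmem), hi, hbf]
      have := hf.ne i₀
      simp [polar_self']
      match_scalars
      field_simp
    · rw [if_neg (by rw [hi₀, Finset.mem_singleton]; exact hi)]
      simp [hf.ortho i i₀ hi]
  rw [he, LinearMap.trace_smulRight] at h
  have hq := hf.ne i₀
  simp [polar_self', polar_smul_left] at h
  have hk0 : k ≠ 0 := fun h0 => hq (by
    rw [← Q_app b, hbf, h0, zero_smul, QuadraticMap.map_zero])
  rcases h with h | h | (h | h) | h | h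
  · exact hk0 h
  · exact mul_ne_zero h2 h2 (by linear_combination h)
  · exact hq h
  · exact h2 h
  · exact h2 h
  · exact hq h

include X in
/-- An involution commuting with and different from a given one. -/
theorem exists_partner_invol {b : O q₂} (hb : b * b = 1) (hbc : b ∈ commutator (O q₂)) (hb1 : b ≠ 1) :
    ∃ b', b' * b' = 1 ∧ b' ∈ commutator (O q₂) ∧ b' ≠ 1 ∧ b' ≠ b ∧ b * b' = b' * b := by
  classical
  obtain ⟨d, hd⟩ := CfsgLib.OrthOmega.exists_not_square X.two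
  have h2 := X.two
  obtain ⟨f, hf, hfe⟩ := exists_frame_comm X.nd₂ h2 hb hb rfl
  obtain ⟨s, hneg, hfix, -⟩ := chiPair_diag hf h2 hd fun i => (hfe i).1
  have htr := X.tr_right hb hbc hb1
  rw [tr_diag hf h2 (fun i => if i ∈ s then -1 else 1) fun i => by
      split_ifs with hi
      · rw [hneg i hi, neg_one_smul]
      · rw [hfix i hi, one_smul], Finset.sum_ite, Finset.sum_const, Finset.sum_const, Finset.filter_mem_eq_inter,
    Finset.univ_inter, Finset.filter_not, Finset.card_sdiff_of_subset (Finset.filter_subset _ _),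
    Finset.filter_mem_eq_inter, Finset.univ_inter, Finset.card_univ, Fintype.card_fin] at htr
  have hle : s.card ≤ 4 := (Finset.card_le_univ s).trans (by simp)
  have h2s : s.card = 2 := by
    have h4F : (4 : F) ≠ 0 := by rw [show (4 : F) = 2 * 2 by norm_num]; exact mul_ne_zero h2 h2
    interval_cases hk : s.card
    · norm_num at htr; exact absurd htr h4F
    · norm_num at htr; exact absurd htr h2
    · rfl
    · norm_num at htr; exact absurd htr h2
    · norm_num at htr; exact absurd htr h4F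
  obtain ⟨i, j, hij, hs'⟩ := Finset.card_eq_two.1 h2s
  obtain ⟨k, l, hkl, hsc⟩ := Finset.card_eq_two.1 (show sᶜ.card = 2 by
    rw [Finset.card_compl, Fintype.card_fin, h2s])
  have hk : k ∉ s := Finset.mem_compl.1 (by rw [hsc]; simp)
  have hl : l ∉ s := Finset.mem_compl.1 (by rw [hsc]; simp)
  have hi : i ∈ s := by rw [hs']; simp
  obtain ⟨x, y, hxy⟩ := exists_binary h2 (hf.ne k) (hf.ne l) (q₂ (f i))
  set v := x • f k + y • f l with hv
  have hqv : q₂ v = q₂ (f i) := by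
    rw [hv, QuadraticMap.map_add ⇑q₂, QuadraticMap.map_smul, QuadraticMap.map_smul, polar_smul_left,
      polar_smul_right, hf.ortho k l hkl]
    simp only [smul_eq_mul, mul_zero, add_zero]
    linear_combination hxy
  have hv0 : q₂ v ≠ 0 := by rw [hqv]; exact hf.ne i
  have hbv : app b v = v := by rw [hv, map_add, map_smul, map_smul, hfix k hk, hfix l hl]
  have hiv : polar q₂ (f i) v = 0 := by
    rw [hv, polar_add_right, polar_smul_right, polar_smul_right, hf.ortho i k (fun h => hk (h ▸ hi)),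
      hf.ortho i l (fun h => hl (h ▸ hi))]
    simp
  have hvi : polar q₂ v (f i) = 0 := by rw [polar_comm]; exact hiv
  have hr : ∀ u z, polar q₂ z u = 0 → refl q₂ u * refl q₂ z = refl q₂ z * refl q₂ u := fun u z h => by
    have := refl_conj (Q := q₂) (refl q₂ u) z
    rw [app_refl_of_ortho h] at this
    exact mul_inv_eq_iff_eq_mul.1 this
  have hrb : ∀ u, (app b u = u ∨ app b u = -u) → b * refl q₂ u = refl q₂ u * b := fun u h => by
    refine mul_inv_eq_iff_eq_mul.1 ?_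
    rw [refl_conj]
    rcases h with h | h <;> rw [h]
    rw [refl_neg]
  refine ⟨refl q₂ (f i) * refl q₂ v, ?_, X.pair_mem₂ (hf.ne i) (by rw [hqv]; exact ⟨_, rfl⟩) hv0, ?_, ?_, ?_⟩
  · rw [(show Commute (refl q₂ (f i)) (refl q₂ v) from hr _ _ hvi).symm.mul_mul_mul_comm, refl_mul_self, refl_mul_self,
      one_mul]
  · intro h
    have h' := congrArg (fun g => app g v) h
    simp only [app_mul, app_one] at h'
    rw [app_refl_self hv0, map_neg, app_refl_of_ortho hvi, eq_comm, eq_neg_iff_add_eq_zero, ← two_smul F,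
      smul_eq_zero] at h'
    exact hv0 (by rw [h'.resolve_left h2, QuadraticMap.map_zero])
  · intro h
    have h' := congrArg (fun g => app g v) h
    simp only [app_mul, hbv] at h'
    rw [app_refl_self hv0, map_neg, app_refl_of_ortho hvi, eq_comm, eq_neg_iff_add_eq_zero, ← two_smul F,
      smul_eq_zero] at h'
    exact hv0 (by rw [h'.resolve_left h2, QuadraticMap.map_zero])
  · exact ((show Commute b (refl q₂ (f i)) from hrb _ (Or.inr (hneg i hi))).mul_right (hrb _ (Or.inl hbv))).eq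

include X in
theorem exists_invol : ∃ b : O q₂, b * b = 1 ∧ b ∈ commutator (O q₂) ∧ b ≠ 1 := by
  classical
  obtain ⟨f, hf⟩ := IsFrame.exists_mem X.nd₂ X.two
  obtain ⟨x, y, hxy⟩ := exists_binary X.two (hf.ne 1) (hf.ne 2) (q₂ (f 0))
  set v := x • f 1 + y • f 2 with hv
  have hqv : q₂ v = q₂ (f 0) := by
    rw [hv, QuadraticMap.map_add ⇑q₂, QuadraticMap.map_smul, QuadraticMap.map_smul, polar_smul_left,
      polar_smul_right, hf.ortho 1 2 (by decide)]
    simp only [smul_eq_mul, mul_zero, add_zero]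
    linear_combination hxy
  have hv0 : q₂ v ≠ 0 := by rw [hqv]; exact hf.ne 0
  have hvi : polar q₂ v (f 0) = 0 := by
    rw [hv, polar_add_left, polar_smul_left, polar_smul_left, hf.ortho 1 0 (by decide), hf.ortho 2 0 (by decide)]
    simp
  have hcomm : Commute (refl q₂ (f 0)) (refl q₂ v) := by
    have := refl_conj (Q := q₂) (refl q₂ (f 0)) v
    rw [app_refl_of_ortho hvi] at this
    exact mul_inv_eq_iff_eq_mul.1 this
  refine ⟨refl q₂ (f 0) * refl q₂ v, ?_, X.pair_mem₂ (hf.ne 0) (by rw [hqv]; exact ⟨_, rfl⟩) hv0, fun h => ?_⟩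
  · rw [hcomm.symm.mul_mul_mul_comm, refl_mul_self, refl_mul_self, one_mul]
  · have h' := congrArg (fun g => app g v) h
    simp only [app_mul, app_one] at h'
    rw [app_refl_self hv0, map_neg, app_refl_of_ortho hvi, eq_comm, eq_neg_iff_add_eq_zero, ← two_smul F,
      smul_eq_zero] at h'
    exact hv0 (by rw [h'.resolve_left X.two, QuadraticMap.map_zero])

include X in
/-- Two common eigenvectors whose half turns are not conjugate in the centraliser. -/
theorem exists_eig_pair {a₁ a₂ : O q₁} (ha₁ : detHom q₁ a₁ = 1) (ha₂ : detHom q₁ a₂ = 1) (h₁ : a₁ * a₁ = 1)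
    (h₂ : a₂ * a₂ = 1) (hc : a₁ * a₂ = a₂ * a₁) :
    ∃ u u', q₁ u ≠ 0 ∧ q₁ u' ≠ 0 ∧ Eig a₁ u ∧ Eig a₂ u ∧ Eig a₁ u' ∧ Eig a₂ u' ∧
      ∀ γ : O q₁, γ * a₁ = a₁ * γ → γ * a₂ = a₂ * γ → ∀ c : F, app γ u' ≠ c • u := by
  classical
  have h2 := X.two
  obtain ⟨f, hf, hfe⟩ := exists_frame_comm X.nd₁ h2 h₁ h₂ hc
  have hpick : ∀ a : O q₁, detHom q₁ a = 1 → a ≠ 1 → (∀ i, Eig a (f i)) →
      ∃ i j, app a (f i) = f i ∧ app a (f j) = -f j := by
    intro a ha ha1 hae
    obtain ⟨j, hj⟩ : ∃ j, app a (f j) ≠ f j := by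
      by_contra h
      push Not at h
      exact ha1 (ext_frame hf h2 fun i => by rw [h, app_one])
    obtain ⟨i, hi⟩ : ∃ i, app a (f i) = f i := by
      by_contra h
      push Not at h
      have : a = negO q₁ := ext_frame hf h2 fun i => by rw [app_negO]; exact (hae i).resolve_left (h i)
      rw [this, detHom_negO q₁ (by simp; exact ⟨1, rfl⟩)] at ha
      exact h2 (by have := congrArg Units.val ha; simp at this; linear_combination -this)
    exact ⟨i, j, hi, (hae j).resolve_left hj⟩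
  have hkill : ∀ a : O q₁, ∀ i j, app a (f i) = f i → app a (f j) = -f j → ∀ γ : O q₁, γ * a = a * γ →
      ∀ c : F, app γ (f j) ≠ c • f i := by
    intro a i j hi hj γ hγ c hγc
    have h := congrArg (fun g => app g (f j)) hγ
    simp only [app_mul, hj, map_neg, hγc, map_smul, hi, neg_eq_iff_add_eq_zero, ← two_smul F, smul_eq_zero,
      h2, false_or] at h
    have hq := Q_app γ (f j)
    rw [hγc, QuadraticMap.map_smul] at hq
    rcases h with h | h
    · rw [h] at hq; simp at hq; exact hf.ne j hq.symm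
    · exact hf.ne i (by rw [h, QuadraticMap.map_zero])
  by_cases hA : a₁ = 1
  · by_cases hB : a₂ = 1
    · subst hA hB
      obtain ⟨d, hd⟩ := CfsgLib.OrthOmega.exists_not_square h2
      have hd0 : d ≠ 0 := fun h => hd (h ▸ IsSquare.zero)
      obtain ⟨u', -, hu'⟩ := CfsgLib.OrthOmega.exists_value_sub h2 (⊤ : Submodule F (Fin 3 → F))
        (nondeg_top X.nd₁).sep (by simp) (mul_ne_zero hd0 (hf.ne 0))
      refine ⟨f 0, u', hf.ne 0, by rw [hu']; exact mul_ne_zero hd0 (hf.ne 0), Or.inl (app_one _),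
        Or.inl (app_one _), Or.inl (app_one _), Or.inl (app_one _), fun γ _ _ c hc => hd ⟨c, ?_⟩⟩
      have hq := Q_app γ u'
      rw [hc, QuadraticMap.map_smul, hu', smul_eq_mul] at hq
      exact mul_right_cancel₀ (hf.ne 0) hq.symm
    · obtain ⟨i, j, hi, hj⟩ := hpick a₂ ha₂ hB fun i => (hfe i).2
      exact ⟨f i, f j, hf.ne i, hf.ne j, (hfe i).1, (hfe i).2, (hfe j).1, (hfe j).2,
        fun γ _ hγ => hkill a₂ i j hi hj γ hγ⟩
  · obtain ⟨i, j, hi, hj⟩ := hpick a₁ ha₁ hA fun i => (hfe i).1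
    exact ⟨f i, f j, hf.ne i, hf.ne j, (hfe i).1, (hfe i).2, (hfe j).1, (hfe j).2,
      fun γ hγ _ => hkill a₁ i j hi hj γ hγ⟩

/-- The centraliser of two commuting involutions with different non-trivial right parts is pure. -/
theorem cent_pair (hO : X.Over M) {a₁ a₂ : O q₁} {b₁ b₂ : O q₂} (ha₁ : detHom q₁ a₁ = 1)
    (ha₂ : detHom q₁ a₂ = 1) (hA₁ : a₁ * a₁ = 1) (hA₂ : a₂ * a₂ = 1) (hA : a₁ * a₂ = a₂ * a₁)
    (hB₁ : b₁ * b₁ = 1) (hB₂ : b₂ * b₂ = 1) (hB : b₁ * b₂ = b₂ * b₁) (hb₁ : b₁ ∈ commutator (O q₂))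
    (hb₂ : b₂ ∈ commutator (O q₂)) (h₁1 : b₁ ≠ 1) (h₂1 : b₂ ≠ 1) (h12 : b₁ ≠ b₂) {g : O q} (hgM : g ∈ M)
    (hg₁ : g * X.emb (a₁, b₁) = X.emb (a₁, b₁) * g) (hg₂ : g * X.emb (a₂, b₂) = X.emb (a₂, b₂) * g) :
    g ∈ X.T := by
  obtain ⟨u, u', hu, hu', hu₁, hu₂, hu'₁, hu'₂, hkey⟩ := X.exists_eig_pair ha₁ ha₂ hA₁ hA₂ hA
  set v₁ := X.emb (a₁, b₁) with hv₁
  set v₂ := X.emb (a₂, b₂) with hv₂
  let D : Subgroup (O q) := M ⊓ Subgroup.centralizer {v₁, v₂}
  have hD : ∀ {x}, x ∈ D ↔ x ∈ M ∧ x * v₁ = v₁ * x ∧ x * v₂ = v₂ * x := fun {x} => by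
    simp only [D, Subgroup.mem_inf, Subgroup.mem_centralizer_iff, Set.forall_mem_insert, Set.mem_singleton_iff,
      forall_eq, eq_comm (a := v₁ * x), eq_comm (a := v₂ * x)]
  have htD : ∀ {u}, q₁ u ≠ 0 → Eig a₁ u → Eig a₂ u → X.emb (X.half u, 1) ∈ D := fun {u} hu e1 e2 =>
    hD.2 ⟨hO.le (X.left_mem (X.det_half hu)),
      X.emb_comm (X.half_comm e1).symm (by rw [one_mul, mul_one]),
      X.emb_comm (X.half_comm e2).symm (by rw [one_mul, mul_one])⟩
  have hgD : g ∈ D := hD.2 ⟨hgM, hg₁, hg₂⟩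
  set t := X.emb (X.half u, 1) with ht
  set r := X.emb (X.half u', 1) with hr
  have htDu : t ∈ D := htD hu hu₁ hu₂
  set s := g * t * g⁻¹ with hs
  have hsD : s ∈ D := D.mul_mem (D.mul_mem hgD htDu) (D.inv_mem hgD)
  refine X.of_conj_half hO hu hgM ?_
  have hs2 : s * s = 1 := by
    rw [hs, show g * t * g⁻¹ * (g * t * g⁻¹) = g * (t * t) * g⁻¹ by group, X.t_mul_self hu]; group
  have hnc : ∀ c ∈ D, c * r * c⁻¹ ≠ s := by
    intro c hc h
    have heD : g⁻¹ * c ∈ D := D.mul_mem (D.inv_mem hgD) hc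
    have he : g⁻¹ * c * r * (g⁻¹ * c)⁻¹ = t := by
      rw [show g⁻¹ * c * r * (g⁻¹ * c)⁻¹ = g⁻¹ * (c * r * c⁻¹) * g by group, h, hs]; group
    obtain ⟨heM, he1, he2⟩ := hD.1 heD
    have heT : g⁻¹ * c ∈ X.T := X.of_conj_half hO hu' heM (by rw [he]; exact X.emb_mem_T _)
    obtain ⟨γ, δ, hγ, -, heq⟩ := X.exists_eq ⟨heT, hO.omega heM⟩
    rw [heq, hv₁] at he1
    rw [heq, hv₂] at he2
    rw [heq, mul_inv_eq_iff_eq_mul, ← map_mul, ← map_mul, Prod.mk_mul_mk, Prod.mk_mul_mk] at he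
    have hhalf := (X.emb_inj (by rw [map_mul, hγ, X.det_half hu', one_mul])
      (by rw [map_mul, hγ, X.det_half hu, one_mul]) he).1
    have hfixu : app (X.half u') u' = u' := by
      rw [X.app_half, polar_self']
      match_scalars; field_simp; ring
    have h' := congrArg (fun k => app k u') hhalf
    simp only [app_mul, hfixu] at h'
    have : app γ u' = (2⁻¹ * ((q₁ u)⁻¹ * polar q₁ (app γ u') u)) • u := by
      conv_rhs at h' => rw [X.app_half, ]
      rw [eq_sub_iff_add_eq, ← two_smul F (app γ u')] at h'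
      have h'' := congrArg (fun x => (2 : F)⁻¹ • x) h'
      simp only [smul_smul, inv_mul_cancel₀ X.two, one_smul] at h''
      exact h''
    exact hkey γ (X.comm_of_emb hγ ha₁ he1).1 (X.comm_of_emb hγ ha₂ he2).1 _ this
  obtain ⟨z, hzD, hz2, hz1, hzr, hzs, hor⟩ := dihedral (htD hu' hu'₁ hu'₂) hsD (X.t_mul_self hu') hs2 hnc
  obtain ⟨hzM, hzv₁, hzv₂⟩ := hD.1 hzD
  obtain ⟨hsM, hsv₁, hsv₂⟩ := hD.1 hsD
  have hzH : z ∈ X.H := ⟨X.cent_half hO hu' hzM hzr, hO.omega hzM⟩
  rcases X.invol_cases hzH hz2 hz1 with ⟨x, hx, rfl, -⟩ | ⟨a, b, ha, haa, hb, hbb, hb1, rfl, -⟩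
  · exact X.cent_half hO hx hsM hzs.symm
  obtain ⟨hca₁, hcb₁⟩ := X.comm_of_emb ha ha₁ hzv₁
  obtain ⟨hca₂, hcb₂⟩ := X.comm_of_emb ha ha₂ hzv₂
  have fin : ∀ a' : O q₁, detHom q₁ a' = 1 → a' * a' = 1 → a * a' = a' * a → Eig a' u →
      g * X.emb (a', b) = X.emb (a', b) * g → s * X.emb (a', b) = X.emb (a', b) * s → s ∈ X.T := by
    intro a' ha' haa' hc he hgv hsv
    rcases eq_or_ne a a' with rfl | hne
    · exfalso
      rcases hor with ⟨c, -, h⟩ | ⟨c, -, h⟩ <;> have h' := congrArg tr h <;>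
        rw [tr_conj, X.tr_t hu'] at h'
      · rw [← map_mul, Prod.mk_mul_mk, one_mul, X.tr_two hbb hb hb1] at h'
        exact X.four_ne h'
      · have e : s * X.emb (a, b) = g * (t * X.emb (a, b)) * g⁻¹ := by
          rw [hs, mul_assoc, mul_assoc, mul_assoc, mul_assoc, ← (show Commute g _ from hgv).inv_left.eq]
        rw [e, tr_conj, ht, ← map_mul, Prod.mk_mul_mk, one_mul, X.tr_two hbb hb hb1] at h'
        exact X.four_ne h'
    · exact X.same_right hO ha ha' haa haa' hc hbb hne hsM hzs.symm hsv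
  rcases X.four_group hbb hb hB₁ hb₁ h₁1 hB₂ hb₂ h₂1 h12 hB hcb₁ hcb₂ with h | h | h | h
  · exact absurd h hb1
  · exact fin a₁ ha₁ hA₁ hca₁ hu₁ (h ▸ hg₁) (h ▸ hsv₁)
  · exact fin a₂ ha₂ hA₂ hca₂ hu₂ (h ▸ hg₂) (h ▸ hsv₂)
  · refine fin (a₁ * a₂) (by rw [map_mul, ha₁, ha₂, one_mul])
      (by rw [(show Commute a₁ a₂ from hA).symm.mul_mul_mul_comm, hA₁, hA₂, one_mul])
      ((show Commute a a₁ from hca₁).mul_right hca₂).eq ?_ ?_ ?_
    · rcases hu₁ with e1 | e1 <;> rcases hu₂ with e2 | e2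
      · exact Or.inl (by rw [app_mul, e2, e1])
      · exact Or.inr (by rw [app_mul, e2, map_neg, e1])
      · exact Or.inr (by rw [app_mul, e2, e1])
      · exact Or.inl (by rw [app_mul, e2, map_neg, e1, neg_neg])
    all_goals rw [h, show ((a₁ * a₂, b₁ * b₂) : O q₁ × O q₂) = (a₁, b₁) * (a₂, b₂) from rfl, map_mul]
    · exact ((show Commute g v₁ from hg₁).mul_right hg₂).eq
    · exact ((show Commute s v₁ from hsv₁).mul_right hsv₂).eq

/-- The centraliser of an involution with non-trivial right part is pure. -/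
theorem cent_one (hO : X.Over M) {a : O q₁} {b : O q₂} (ha : detHom q₁ a = 1) (haa : a * a = 1)
    (hbb : b * b = 1) (hb : b ∈ commutator (O q₂)) (hb1 : b ≠ 1) {g : O q} (hgM : g ∈ M)
    (hg : g * X.emb (a, b) = X.emb (a, b) * g) : g ∈ X.T := by
  obtain ⟨b', hbb', hb', hb'1, hne, hcb⟩ := X.exists_partner_invol hbb hb hb1
  obtain ⟨fr, hfr, hfre⟩ := exists_frame_comm X.nd₁ X.two haa haa rfl
  set u := fr 0
  have hu : q₁ u ≠ 0 := hfr.ne 0
  set v := X.emb (a, b) with hv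
  let D : Subgroup (O q) := M ⊓ Subgroup.centralizer {v}
  have hD : ∀ {x}, x ∈ D ↔ x ∈ M ∧ x * v = v * x := fun {x} => by
    simp only [D, Subgroup.mem_inf, Subgroup.mem_centralizer_iff, Set.mem_singleton_iff, forall_eq,
      eq_comm (a := v * x)]
  set f := X.emb (1, b') with hf
  set t := X.emb (X.half u, 1) with ht
  have htD : t ∈ D := hD.2 ⟨hO.le (X.left_mem (X.det_half hu)),
    X.emb_comm (X.half_comm (hfre 0).1).symm (by rw [one_mul, mul_one])⟩
  have hfD : f ∈ D := hD.2 ⟨hO.le (X.right_mem hb'), X.emb_comm (by rw [one_mul, mul_one]) hcb.symm⟩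
  have hgD : g ∈ D := hD.2 ⟨hgM, hg⟩
  set s := g * f * g⁻¹ with hs
  have hsD : s ∈ D := D.mul_mem (D.mul_mem hgD hfD) (D.inv_mem hgD)
  have hf2 : f * f = 1 := X.emb_sq (mul_one 1) hbb'
  have hs2 : s * s = 1 := by
    rw [hs, show g * f * g⁻¹ * (g * f * g⁻¹) = g * (f * f) * g⁻¹ by group, hf2]; group
  have htrs : tr s = 0 := by rw [hs, tr_conj, hf, X.tr_two hbb' hb' hb'1]
  have hnc : ∀ c ∈ D, c * t * c⁻¹ ≠ s := fun c _ h => X.four_ne (by
    rw [← X.tr_t hu, ← tr_conj c, h, htrs])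
  have hsv0 : tr (s * v) = 0 := by
    have e : s * v = g * (f * v) * g⁻¹ := by
      rw [hs, mul_assoc, mul_assoc, mul_assoc, mul_assoc, ← (show Commute g v from hg).inv_left.eq]
    rw [e, tr_conj, hf, hv, ← map_mul, Prod.mk_mul_mk, X.tr_two
      (by rw [(show Commute b' b from hcb.symm).symm.mul_mul_mul_comm, hbb', hbb, one_mul])
      (Subgroup.mul_mem _ hb' hb) fun h => hne (by rw [← mul_one b', ← hbb, ← mul_assoc, h, one_mul])]
  obtain ⟨z, hzD, hz2, hz1, hzt, hzs, hor⟩ := dihedral htD hsD (X.t_mul_self hu) hs2 hnc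
  obtain ⟨hzM, hzv⟩ := hD.1 hzD
  obtain ⟨hsM, hsv⟩ := hD.1 hsD
  have hzH : z ∈ X.H := ⟨X.cent_half hO hu hzM hzt, hO.omega hzM⟩
  have hsT : s ∈ X.T := by
    rcases X.invol_cases hzH hz2 hz1 with ⟨x, hx, rfl, -⟩ | ⟨az, bz, haz, haaz, hbz, hbbz, hbz1, rfl, -⟩
    · exact X.cent_half hO hx hsM hzs.symm
    obtain ⟨hca, hcb'⟩ := X.comm_of_emb haz ha hzv
    rcases eq_or_ne bz b with rfl | hbne
    · rcases eq_or_ne az a with rfl | hane
      · exfalso
        rcases hor with ⟨c, -, h⟩ | ⟨c, -, h⟩ <;> have h' := congrArg tr h <;> rw [tr_conj, X.tr_t hu] at h'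
        · rw [ht, ← map_mul, Prod.mk_mul_mk, one_mul, X.tr_two hbbz hbz hbz1] at h'
          exact X.four_ne h'
        · rw [← hv, hsv0] at h'
          exact X.four_ne h'
      · exact X.same_right hO haz ha haaz haa hca hbbz hane hsM hzs.symm hsv
    · exact X.cent_pair hO haz ha haaz haa hca hbbz hbb hcb' hbz hb hbz1 hb1 hbne hsM hzs.symm hsv
  have hs1 : s ≠ 1 := fun h => by
    rw [h, tr_one, X.card_ι] at htrs
    rw [hs, conj_eq_one_iff] at h
    exact hb'1 (X.emb_eq_one (map_one _) h).2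
  rcases X.invol_cases ⟨hsT, hO.omega hsM⟩ hs2 hs1 with ⟨_, _, _, h4⟩ | ⟨as, bs, has, haas, hbs, hbbs, hbs1, hse, -⟩
  · exact absurd (h4.symm.trans htrs) X.four_ne
  obtain ⟨hca, hcb'⟩ := X.comm_of_emb has ha (hse ▸ hsv)
  have hbne : bs ≠ b := by
    rintro rfl
    have hane : as ≠ a := by
      rintro rfl
      rw [← hv, hs, mul_inv_eq_iff_eq_mul, ← hg] at hse
      exact hne (X.emb_inj (map_one _) ha (mul_left_cancel hse)).2
    obtain ⟨x, hx, he, -⟩ := X.exists_half (a := as * a)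
      (by rw [(show Commute as a from hca).symm.mul_mul_mul_comm, haas, haa, one_mul])
      (by rw [map_mul, has, ha, one_mul]) fun h => hane (by rw [← mul_one as, ← haa, ← mul_assoc, h, one_mul])
    rw [hse, hv, ← map_mul, Prod.mk_mul_mk, he, hbbs, X.tr_t hx] at hsv0
    exact X.four_ne hsv0
  refine X.of_conj_half hO hu hgM ?_
  have hft : Commute f t := X.emb_comm (by rw [one_mul, mul_one]) (by rw [one_mul, mul_one])
  have h1 : g * t * g⁻¹ * v = v * (g * t * g⁻¹) :=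
    (((show Commute g v from hg).mul_left (hD.1 htD).2).mul_left (show Commute g v from hg).inv_left).eq
  have h2 : g * t * g⁻¹ * s = s * (g * t * g⁻¹) := by
    rw [hs, show g * t * g⁻¹ * (g * f * g⁻¹) = g * (t * f) * g⁻¹ by group, ← hft.eq]; group
  exact X.cent_pair hO has ha haas haa hca hbbs hbb hcb' hbs hb hbs1 hb1 hbne
    (M.mul_mem (M.mul_mem hgM (hD.1 htD).1) (M.inv_mem hgM)) (hse ▸ h2) h1

/-- A proper overgroup is the stabiliser. -/
theorem le_T (hO : X.Over M) {g : O q} (hgM : g ∈ M) : g ∈ X.T := by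
  obtain ⟨b, hbb, hb, hb1⟩ := X.exists_invol
  obtain ⟨u, hu⟩ := exists_anisotropic X.nd₁ (by simp)
  set f := X.emb (1, b) with hf
  set t := X.emb (X.half u, 1) with ht
  have htM : t ∈ M := hO.le (X.left_mem (X.det_half hu))
  set s := g * f * g⁻¹ with hs
  have hsM : s ∈ M := M.mul_mem (M.mul_mem hgM (hO.le (X.right_mem hb))) (M.inv_mem hgM)
  have hf2 : f * f = 1 := X.emb_sq (mul_one 1) hbb
  have hs2 : s * s = 1 := by
    rw [hs, show g * f * g⁻¹ * (g * f * g⁻¹) = g * (f * f) * g⁻¹ by group, hf2]; group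
  have htrs : tr s = 0 := by rw [hs, tr_conj, hf, X.tr_two hbb hb hb1]
  have hnc : ∀ c ∈ M, c * t * c⁻¹ ≠ s := fun c _ h => X.four_ne (by
    rw [← X.tr_t hu, ← tr_conj c, h, htrs])
  obtain ⟨z, hzM, hz2, hz1, hzt, hzs, -⟩ := dihedral htM hsM (X.t_mul_self hu) hs2 hnc
  have hsT : s ∈ X.T := by
    rcases X.invol_cases ⟨X.cent_half hO hu hzM hzt, hO.omega hzM⟩ hz2 hz1 with
      ⟨x, hx, rfl, -⟩ | ⟨az, bz, haz, haaz, hbz, hbbz, hbz1, rfl, -⟩
    · exact X.cent_half hO hx hsM hzs.symm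
    · exact X.cent_one hO haz haaz hbbz hbz hbz1 hsM hzs.symm
  have hs1 : s ≠ 1 := fun h => by
    rw [hs, conj_eq_one_iff] at h
    exact hb1 (X.emb_eq_one (map_one _) h).2
  rcases X.invol_cases ⟨hsT, hO.omega hsM⟩ hs2 hs1 with ⟨_, _, _, h4⟩ | ⟨as, bs, has, haas, hbs, hbbs, hbs1, hse, -⟩
  · exact absurd (h4.symm.trans htrs) X.four_ne
  refine X.of_conj_half hO hu hgM ?_
  have hft : Commute f t := X.emb_comm (by rw [one_mul, mul_one]) (by rw [one_mul, mul_one])
  have h2 : g * t * g⁻¹ * s = s * (g * t * g⁻¹) := by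
    rw [hs, show g * t * g⁻¹ * (g * f * g⁻¹) = g * (t * f) * g⁻¹ by group, ← hft.eq]; group
  exact X.cent_one hO has haas hbbs hbs hbs1 (M.mul_mem (M.mul_mem hgM htM) (M.inv_mem hgM)) (hse ▸ h2)

include X in
theorem proper : ¬ commutator (O q) ≤ X.H := by
  classical
  intro hle
  obtain ⟨w, w', P, b, hb, hb0⟩ := X.exists_root
  obtain ⟨f, hf⟩ := IsFrame.exists_mem X.nd₁ X.two
  have hqb : q₂ b ≠ 0 := fun h => hb0 ((X.mid_spec P).2.2 b hb h)
  obtain ⟨hwb, hw'b⟩ := mem_mid.1 hb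
  set K := skew q₁ (f 0) (f 1) with hK
  have hKs : IsSkew q₁ K := isSkew_skew _ _
  have hz : X.zel w K ∈ X.T := by
    rw [← X.eich_slice P.q₁]
    exact (hle (CfsgLib.GeomClasses.OrthEich.eich_mem X.nd X.seven (X.q_τ_singular _ P.q₁)
      (by rw [X.polar_τ, P.self₁, mul_zero]))).1
  obtain ⟨⟨a, β⟩, he⟩ := hz
  have hap : ∀ x y, X.τ (app a x) (app β y) = X.τ x y + X.τ (polar q₂ y w • K x) w := fun x y => by
    have h := X.app_emb (a, β) x y
    rw [he, X.app_zel P.q₁ hKs, X.C_τ, map_smul] at h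
    exact h.symm
  have hbne : app β b ≠ 0 := fun h => hb0 (app_injective β (by rw [h, map_zero]))
  obtain ⟨φ, hφ⟩ := exists_polar_eq_one X.nd₂ hbne
  set c := polar q₂ b φ
  have hax : ∀ x, app a x = c • x := fun x => by
    have h := congrArg (X.C φ) (hap x b)
    rw [polar_comm (f := ⇑q₂) b w, hwb, zero_smul, map_zero, LinearMap.zero_apply, add_zero, X.C_τ, X.C_τ, hφ,
      one_smul] at h
    exact h
  set k := c * polar q₂ (app β w') w'
  have hKx : ∀ x, K x = k • x := fun x => by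
    have h := congrArg (X.C w') (hap x w')
    rw [hax, P.pair', one_smul, map_add, X.C_τ, X.C_τ, X.C_τ, P.self₂, P.pair, zero_smul, zero_add, one_smul,
      smul_smul] at h
    rw [← h, mul_comm]
  have h0 := hf.ne 0
  have h1 := hf.ne 1
  have hk := hKs (f 0) (f 0)
  rw [hKx, polar_smul_left, polar_smul_right, polar_self', smul_eq_mul, ← two_mul] at hk
  have hk0 : k = 0 :=
    (mul_eq_zero.1 ((mul_eq_zero.1 hk).resolve_left X.two)).resolve_right (mul_ne_zero X.two h0)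
  have h := congrArg (fun v => polar q₁ v (f 1)) (hKx (f 0))
  simp only [hK, skew_apply, hk0, zero_smul, polar_zero_left, polar_sub_left, polar_smul_left, polar_self',
    hf.ortho 0 1 (by decide), hf.ortho 1 0 (by decide), smul_eq_mul, mul_zero, zero_mul, zero_sub, sub_zero,
    neg_eq_zero, mul_eq_zero, X.two, h0, h1, or_self] at h

/-- The tensor stabiliser is maximal in `Ω`. -/
theorem maximal : Cfsg.Geo.IsMaximalIn (commutator (O q)) X.H := by
  refine ⟨lt_of_le_of_ne inf_le_right fun h => X.proper h.ge, fun M h1 h2 => ?_⟩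
  by_cases h : commutator (O q) ≤ M
  · exact Or.inr (le_antisymm h2 h)
  · exact Or.inl (le_antisymm (fun g hg => ⟨X.le_T ⟨h1, h2, h⟩ hg, h2 hg⟩) h1)

end Data

end CfsgLib.TensorMinus
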