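import Cfsg.Agent.Lib.TensorMinus.Inv

/-!
The tensor stabiliser inside `Ω`: membership, involutions and their traces.
-/

set_option autoImplicit false
set_option linter.unusedSectionVars false
set_option linter.unusedSimpArgs false

namespace CfsgLib.TensorMinus

open Matrix QuadraticMap CfsgLib.Orth CfsgLib.TensorMax63

variable {ι : Type} [Fintype ι] [DecidableEq ι] {F : Type*} [Field F] [Fintype F] [DecidableEq F]
  {q : QuadraticForm F (ι → F)} {q₁ : QuadraticForm F (Fin 3 → F)}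
  {q₂ : QuadraticForm F (Fin 4 → F)} (X : Data q q₁ q₂)

theorem units_sq (x : ℤˣ × ℤˣ) : x * x = 1 := Prod.ext (Int.units_mul_self _) (Int.units_mul_self _)

theorem cls_mul_cls (h2 : (2 : F) ≠ 0) {a b : F} (ha : a ≠ 0) (hb : b ≠ 0) :
    cls a * cls b = ((-1 : ℤˣ), (1 : ℤˣ)) * cls (a * b) := by
  rw [cls_mul h2 ha hb]
  simp only [← mul_assoc, units_sq, one_mul]
  rw [mul_comm _ ((-1 : ℤˣ), (1 : ℤˣ)), ← mul_assoc, ← mul_assoc, units_sq, one_mul]

theorem prod_even_cls (h2 : (2 : F) ≠ 0) {α : Type} (s : Finset α) (hs : Even s.card) (u : α → F)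
    (hu : ∀ j ∈ s, u j ≠ 0) {k : F} (hk : k ≠ 0) : ∏ j ∈ s, cls (k * u j) = ∏ j ∈ s, cls (u j) := by
  rw [Finset.prod_congr rfl (fun j hj => cls_mul h2 hk (hu j hj)), Finset.prod_mul_distrib, Finset.prod_mul_distrib,
    Finset.prod_const, Finset.prod_const]
  obtain ⟨m, hm⟩ := hs
  simp [hm, pow_add, units_sq]

namespace Data

theorem chi₂ {d : F} (hd : ¬ IsSquare d) :
    ∃ e : ℤˣ × ℤˣ ≃* ℤˣ × ℤˣ, ∀ b, chiPair q d (X.emb (1, b)) = e (chiPair q₂ d b) := by
  classical
  obtain ⟨f, hf⟩ := IsFrame.exists_mem X.nd₁ X.two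
  set c := ((-1 : ℤˣ), (1 : ℤˣ)) * ∏ j : Fin 3, cls (2 * q₁ (f j)) with hc
  refine twist_of_refl X.two X.nd₂ (by rw [Fintype.card_fin]; norm_num) hd
    (X.emb.comp (MonoidHom.inr _ _)) c (fun v hv => ?_) ?_
  · obtain ⟨g, hg, hgz⟩ := exists_prod_refl (p := q) X.two hd (fun j => X.τ (f j) v) Finset.univ
      (fun j _ => by rw [X.q_τ]; exact mul_ne_zero (mul_ne_zero X.two (hf.ne j)) hv)
      (fun i _ j _ hij => by rw [X.polar_τ, hf.ortho i j hij, zero_mul])
    have hge : g = X.emb (1, refl q₂ v) := X.ext_O fun x y => by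
      rw [hgz, X.app_emb, app_one, app_refl, map_sub, map_smul, sub_right_inj]
      conv_rhs => rw [hf.sum_eq X.two x, map_sum, LinearMap.sum_apply, Finset.smul_sum]
      refine Finset.sum_congr rfl fun j _ => ?_
      rw [map_smul, LinearMap.smul_apply, smul_smul, X.polar_τ, X.q_τ]
      congr 1
      have := hf.ne j
      have := X.two
      field_simp
    show chiPair q d (X.emb (1, refl q₂ v)) = _
    rw [← hge, hg, hc, ← prod_cls X.two Finset.univ (by simp; exact ⟨1, rfl⟩) _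
      (fun j _ => mul_ne_zero X.two (hf.ne j)) hv]
    exact Finset.prod_congr rfl fun j _ => by rw [X.q_τ]; ring_nf
  · rw [hc, Prod.fst_mul, Prod.snd_mul, Prod.fst_prod, Prod.snd_prod, mul_mul_mul_comm,
      ← Finset.prod_mul_distrib, Finset.prod_congr rfl (fun j _ => cls_prod_units _), Finset.prod_const,
      Finset.card_univ, Fintype.card_fin, (show Odd 3 from ⟨1, rfl⟩).neg_one_pow]
    decide

theorem left_chi {d : F} (hd : ¬ IsSquare d) :
    ∃ c : ℤˣ × ℤˣ, ∀ v, q₁ v ≠ 0 → chiPair q d (X.emb (refl q₁ v, 1)) = c := by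
  classical
  obtain ⟨f, hf⟩ := IsFrame.exists_mem X.nd₂ X.two
  refine ⟨∏ j : Fin 4, cls (2 * q₂ (f j)), fun v hv => ?_⟩
  obtain ⟨g, hg, hgz⟩ := exists_prod_refl (p := q) X.two hd (fun j => X.τ v (f j)) Finset.univ
    (fun j _ => by rw [X.q_τ]; exact mul_ne_zero (mul_ne_zero X.two hv) (hf.ne j))
    (fun i _ j _ hij => by rw [X.polar_τ, hf.ortho i j hij, mul_zero])
  have hge : g = X.emb (refl q₁ v, 1) := X.ext_O fun x y => by
    rw [hgz, X.app_emb, app_one, app_refl, map_sub, LinearMap.sub_apply, map_smul, LinearMap.smul_apply,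
      sub_right_inj]
    conv_rhs => rw [hf.sum_eq X.two y, map_sum, Finset.smul_sum]
    refine Finset.sum_congr rfl fun j _ => ?_
    rw [map_smul, smul_smul, X.polar_τ, X.q_τ]
    congr 1
    have := hf.ne j
    have := X.two
    field_simp
  rw [← hge, hg, ← prod_even_cls X.two Finset.univ ⟨2, rfl⟩ _ (fun j _ => mul_ne_zero X.two (hf.ne j)) hv]
  exact Finset.prod_congr rfl fun j _ => by rw [X.q_τ]; ring_nf

/-- Rotations of the left factor lie in the stabiliser. -/
theorem left_mem {a : O q₁} (ha : detHom q₁ a = 1) : X.emb (a, 1) ∈ X.H := by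
  refine ⟨X.emb_mem_T _, ?_⟩
  obtain ⟨d, hd⟩ := CfsgLib.OrthOmega.exists_not_square X.two
  obtain ⟨c, hc⟩ := X.left_chi hd
  have key : ∀ g : O q₁, (detHom q₁ g = 1 ∧ chiPair q d (X.emb (g, 1)) = 1) ∨
      (detHom q₁ g = -1 ∧ chiPair q d (X.emb (g, 1)) = c) := fun g => by
    induction g using odd_induction X.nd₁ X.two with
    | h1 => exact Or.inl ⟨map_one _, by rw [show ((1 : O q₁), (1 : O q₂)) = 1 from rfl, map_one, map_one]⟩
    | hmul v g hv ih =>
      rw [show ((refl q₁ v * g, 1) : O q₁ × O q₂) = (refl q₁ v, 1) * (g, 1) by simp, map_mul, map_mul, map_mul,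
        detHom_refl hv, hc v hv]
      rcases ih with ⟨h1, h3⟩ | ⟨h1, h3⟩ <;> rw [h1, h3]
      · exact Or.inr ⟨mul_one _, mul_one _⟩
      · exact Or.inl ⟨by rw [neg_mul_neg, one_mul], units_sq c⟩
  show X.emb (a, 1) ∈ commutator (O q)
  rw [commutator_eq X.nd X.two hd, MonoidHom.mem_ker]
  rcases key a with ⟨-, h⟩ | ⟨h, -⟩
  · exact h
  · exfalso
    rw [ha] at h
    exact X.two (by have := congrArg Units.val h; simp at this; linear_combination this)

theorem right_mem {b : O q₂} (hb : b ∈ commutator (O q₂)) : X.emb (1, b) ∈ X.H := by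
  refine ⟨X.emb_mem_T _, ?_⟩
  have h := Subgroup.mem_map_of_mem (X.emb.comp (MonoidHom.inr (O q₁) (O q₂))) hb
  rw [commutator_def, Subgroup.map_commutator] at h
  rw [commutator_def]
  exact Subgroup.commutator_mono le_top le_top h

theorem mem_H {a : O q₁} {b : O q₂} (ha : detHom q₁ a = 1) (hb : b ∈ commutator (O q₂)) :
    X.emb (a, b) ∈ X.H := by
  rw [show ((a, b) : O q₁ × O q₂) = (a, 1) * (1, b) by simp, map_mul]
  exact X.H.mul_mem (X.left_mem ha) (X.right_mem hb)

theorem det_normalise (g : O q) (hg : g ∈ X.T) :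
    ∃ a b, detHom q₁ a = 1 ∧ g = X.emb (a, b) := by
  obtain ⟨⟨a, b⟩, rfl⟩ := hg
  have hdet : detHom q₁ a = 1 ∨ detHom q₁ a = -1 := by
    obtain ⟨d, hd⟩ := CfsgLib.OrthOmega.exists_not_square X.two
    rw [detHom_eq X.nd₁ X.two hd]
    rcases Int.units_eq_one_or (chi q₁ 1 a * chi q₁ d a) with h | h <;> rw [h]
    · left; simp
    · right; ext; simp
  rcases hdet with h | h
  · exact ⟨a, b, h, rfl⟩
  · refine ⟨negO q₁ * a, negO q₂ * b, ?_, X.ext_O fun x y => ?_⟩
    · rw [map_mul, h, detHom_negO q₁ (by rw [Fintype.card_fin]; exact ⟨1, rfl⟩), neg_one_mul, neg_neg]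
    · simp [app_negO]

theorem emb_eq_one {a : O q₁} {b : O q₂} (ha : detHom q₁ a = 1) (h : X.emb (a, b) = 1) : a = 1 ∧ b = 1 := by
  have key : ∀ x y, X.τ (app a x) (app b y) = X.τ x y := fun x y => by
    have := X.app_emb (a, b) x y
    rw [h, app_one] at this
    exact this.symm
  obtain ⟨f, hf⟩ := IsFrame.exists_mem X.nd₂ X.two
  let j : Fin 4 := ⟨0, by norm_num⟩
  set e := f j
  have he0 : e ≠ 0 := fun h => hf.ne j (by rw [show f j = e from rfl, h, QuadraticMap.map_zero])
  have hbe : app b e ≠ 0 := fun h0 => he0 (app_injective b (by rw [h0, map_zero]))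
  obtain ⟨φ, hφ⟩ := exists_polar_eq_one X.nd₂ hbe
  have hax : ∀ x, app a x = polar q₂ e φ • x := fun x => by
    have := congrArg (X.C φ) (key x e)
    rwa [X.C_τ, X.C_τ, hφ, one_smul] at this
  set l := polar q₂ e φ
  have hl : app a = l • LinearMap.id := LinearMap.ext hax
  obtain ⟨x₀, hx₀⟩ := exists_anisotropic X.nd₁ (by rw [Fintype.card_fin]; norm_num)
  have hl2 : l * l = 1 := by
    have := Q_app a x₀
    rw [hax, QuadraticMap.map_smul, smul_eq_mul] at this
    exact mul_right_cancel₀ hx₀ (this.trans (one_mul _).symm)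
  have ha1 : a = 1 := by
    rcases mul_self_eq_one_iff.1 hl2 with h1 | h1
    · exact ext_app fun x => by rw [hax, h1, one_smul, app_one]
    · exfalso
      have hneg : a = negO q₁ := ext_app fun x => by rw [hax, h1, neg_one_smul, app_negO]
      rw [hneg, detHom_negO q₁ (by rw [Fintype.card_fin]; exact ⟨1, rfl⟩)] at ha
      exact X.two (by have := congrArg Units.val ha; simp at this; linear_combination -this)
  refine ⟨ha1, ext_app fun y => ?_⟩
  have hx0 : x₀ ≠ 0 := fun h => hx₀ (by rw [h, QuadraticMap.map_zero])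
  have := key x₀ y
  rw [ha1, app_one, ← sub_eq_zero, ← map_sub] at this
  rw [app_one]
  exact sub_eq_zero.1 (X.τ_inj_right hx0 this)

theorem emb_inj {a a' : O q₁} {b b' : O q₂} (ha : detHom q₁ a = 1) (ha' : detHom q₁ a' = 1)
    (h : X.emb (a, b) = X.emb (a', b')) : a = a' ∧ b = b' := by
  have h' : X.emb (a * a'⁻¹, b * b'⁻¹) = 1 := by
    rw [show (a * a'⁻¹, b * b'⁻¹) = (a, b) * (a', b')⁻¹ from rfl, map_mul, map_inv, h, mul_inv_cancel]
  obtain ⟨h1, h3⟩ := X.emb_eq_one (by rw [map_mul, map_inv, ha, ha', inv_one, mul_one]) h'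
  exact ⟨mul_inv_eq_one.1 h1, mul_inv_eq_one.1 h3⟩

theorem exists_eq {g : O q} (hg : g ∈ X.H) :
    ∃ a b, detHom q₁ a = 1 ∧ b ∈ commutator (O q₂) ∧ g = X.emb (a, b) := by
  obtain ⟨a, b, ha, rfl⟩ := X.det_normalise g hg.1
  refine ⟨a, b, ha, ?_, rfl⟩
  obtain ⟨d, hd⟩ := CfsgLib.OrthOmega.exists_not_square X.two
  obtain ⟨e, he⟩ := X.chi₂ hd
  have h : X.emb (1, b) ∈ commutator (O q) := by
    have h' : X.emb (1, b) = (X.emb (a, 1))⁻¹ * X.emb (a, b) := by
      rw [← map_inv, ← map_mul]; simp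
    rw [h']
    exact Subgroup.mul_mem _ (Subgroup.inv_mem _ (X.left_mem ha).2) hg.2
  rw [commutator_eq X.nd X.two hd, MonoidHom.mem_ker, he, MulEquiv.map_eq_one_iff] at h
  rwa [commutator_eq X.nd₂ X.two hd, MonoidHom.mem_ker]

include X in
/-- The product of the values of an orthogonal basis of the right factor. -/
theorem disc {f : Fin 4 → Fin 4 → F} (hf : IsFrame q₂ f) :
    ¬ IsSquare (q₂ (f 0) * q₂ (f 1) * q₂ (f 2) * q₂ (f 3)) := by
  classical
  rintro ⟨s, hs⟩
  have h0 := hf.ne 0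
  have h1 := hf.ne 1
  have h3 := hf.ne 2
  have h4 := hf.ne 3
  obtain ⟨x, y, hxy⟩ := exists_binary X.two h0 h1 (-q₂ (f 2))
  set c := s / (q₂ (f 0) * q₂ (f 1) * q₂ (f 2)) with hc
  set v := x • f 0 + y • f 1 + f 2 with hv
  set v' := (c * -(y * q₂ (f 1))) • f 0 + (c * (x * q₂ (f 0))) • f 1 + f 3 with hv'
  have hval : ∀ (a b : F) (i : Fin 4), i ≠ 0 → i ≠ 1 →
      q₂ (a • f 0 + b • f 1 + f i) = q₂ (f 0) * a ^ 2 + q₂ (f 1) * b ^ 2 + q₂ (f i) := fun a b i hi hi' => by
    rw [QuadraticMap.map_add ⇑q₂ (a • f 0 + b • f 1), QuadraticMap.map_add ⇑q₂ (a • f 0), QuadraticMap.map_smul,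
      QuadraticMap.map_smul, polar_smul_left, polar_smul_right, polar_add_left, polar_smul_left, polar_smul_left,
      hf.ortho 0 1 (by decide), hf.ortho 0 i (Ne.symm hi), hf.ortho 1 i (Ne.symm hi')]
    simp only [smul_eq_mul, mul_zero, add_zero]
    ring
  have hqv : q₂ v = 0 := by
    rw [hv, hval x y 2 (by decide) (by decide)]
    linear_combination hxy
  have hqv' : q₂ v' = 0 := by
    rw [hv', hval _ _ 3 (by decide) (by decide)]
    have hP : q₂ (f 0) * q₂ (f 1) * q₂ (f 2) ≠ 0 := mul_ne_zero (mul_ne_zero h0 h1) h3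
    have hcP : c * (q₂ (f 0) * q₂ (f 1) * q₂ (f 2)) = s := by rw [hc, div_mul_cancel₀ _ hP]
    refine (mul_eq_zero.1 (?_ : q₂ (f 0) * q₂ (f 1) * q₂ (f 2) * _ = 0)).resolve_left hP
    linear_combination (q₂ (f 0) * q₂ (f 1) * q₂ (f 2) * c ^ 2 * q₂ (f 0) * q₂ (f 1)) * hxy + hs -
      (c * (q₂ (f 0) * q₂ (f 1) * q₂ (f 2)) + s) * hcP
  have hvv : polar q₂ v v' = 0 := by
    simp only [hv, hv', polar_add_left, polar_add_right, polar_smul_left, polar_smul_right, polar_self',
      hf.ortho 0 1 (by decide), hf.ortho 1 0 (by decide), hf.ortho 0 3 (by decide), hf.ortho 1 3 (by decide),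
      hf.ortho 2 0 (by decide), hf.ortho 2 1 (by decide), hf.ortho 2 3 (by decide), smul_eq_mul]
    ring
  have hli : LinearIndependent F ![v, v'] := by
    rw [LinearIndependent.pair_iff]
    intro a b hab
    have e1 := congrArg (fun z => polar q₂ z (f 2)) hab
    have e2 := congrArg (fun z => polar q₂ z (f 3)) hab
    simp only [hv, hv', polar_add_left, polar_smul_left, polar_zero_left, polar_self', hf.ortho 0 2 (by decide),
      hf.ortho 1 2 (by decide), hf.ortho 3 2 (by decide), hf.ortho 0 3 (by decide), hf.ortho 1 3 (by decide),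
      hf.ortho 2 3 (by decide), smul_eq_mul, mul_zero, zero_add, add_zero, mul_eq_zero, X.two, h3, h4,
      or_false, or_self] at e1 e2
    exact ⟨e1, e2⟩
  obtain ⟨z, hz, hqz⟩ := X.minus (Submodule.span F (Set.range ![v, v'])) (by
    rw [finrank_span_eq_card hli, Fintype.card_fin])
  rw [Matrix.range_cons_cons_empty] at hz
  obtain ⟨a, b, rfl⟩ := Submodule.mem_span_pair.1 hz
  refine hqz ?_
  rw [QuadraticMap.map_add ⇑q₂, QuadraticMap.map_smul, QuadraticMap.map_smul, polar_smul_left, polar_smul_right,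
    hqv, hqv', hvv]
  simp

include X in
theorem negB_not_mem : negO q₂ ∉ commutator (O q₂) := by
  classical
  obtain ⟨d, hd⟩ := CfsgLib.OrthOmega.exists_not_square X.two
  obtain ⟨f, hf⟩ := IsFrame.exists_mem X.nd₂ X.two
  obtain ⟨g, hg, hgz⟩ := exists_prod_refl (p := q₂) X.two hd f Finset.univ (fun i _ => hf.ne i)
    fun i _ j _ => hf.ortho i j
  have hge : g = negO q₂ := ext_app fun y => by
    have hy := hf.sum_eq X.two y
    rw [hgz, app_negO]
    have : ∑ j, ((q₂ (f j))⁻¹ * polar q₂ y (f j)) • f j = (2 : F) • y := by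
      conv_rhs => rw [hy, Finset.smul_sum]
      refine Finset.sum_congr rfl fun j _ => ?_
      rw [smul_smul]
      congr 1
      have := hf.ne j
      have := X.two
      field_simp
    rw [this]
    module
  intro h
  rw [commutator_eq X.nd₂ X.two hd, MonoidHom.mem_ker, ← hge, hg, Fin.prod_univ_four] at h
  rw [cls_mul_cls X.two (hf.ne 0) (hf.ne 1), mul_assoc, cls_mul_cls X.two (hf.ne 2) (hf.ne 3),
    mul_mul_mul_comm, units_sq, one_mul, cls_mul_cls X.two (mul_ne_zero (hf.ne 0) (hf.ne 1))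
      (mul_ne_zero (hf.ne 2) (hf.ne 3)), cls, if_neg (by rw [← mul_assoc]; exact X.disc hf)] at h
  exact absurd (congrArg Prod.fst h) (by simp)

include X in
/-- A half turn of the right factor has trace zero. -/
theorem tr_right {b : O q₂} (hb : b * b = 1) (hbc : b ∈ commutator (O q₂)) (hb1 : b ≠ 1) : tr b = 0 := by
  classical
  obtain ⟨d, hd⟩ := CfsgLib.OrthOmega.exists_not_square X.two
  obtain ⟨f, hf, hfe⟩ := exists_frame_comm X.nd₂ X.two hb hb rfl
  obtain ⟨s, hneg, hfix, hchi⟩ := chiPair_diag hf X.two hd fun i => (hfe i).1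
  rw [commutator_eq X.nd₂ X.two hd, MonoidHom.mem_ker] at hbc
  rw [hbc] at hchi
  have h := congrArg (fun z : ℤˣ × ℤˣ => z.1 * z.2) hchi
  simp only [Prod.fst_prod, Prod.snd_prod, ← Finset.prod_mul_distrib, cls_prod_units, Finset.prod_const,
    Prod.fst_one, Prod.snd_one, mul_one] at h
  have hev : Even s.card := (neg_one_pow_eq_one_iff_even (by decide : (-1 : ℤˣ) ≠ 1)).1 h.symm
  have hle : s.card ≤ 4 := (Finset.card_le_univ s).trans (by simp)
  have h0 : s.card ≠ 0 := fun h0 => hb1 (ext_frame hf X.two fun i => by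
    rw [hfix i (by rw [Finset.card_eq_zero.1 h0]; simp), app_one])
  have h4 : s.card ≠ 4 := fun h4 => X.negB_not_mem (by
    have : s = Finset.univ := Finset.eq_univ_of_card s (by simpa using h4)
    rw [show negO q₂ = b from ext_frame hf X.two fun i => by
      rw [app_negO, hneg i (by rw [this]; simp)], commutator_eq X.nd₂ X.two hd, MonoidHom.mem_ker, hbc])
  have h2 : s.card = 2 := by obtain ⟨m, hm⟩ := hev; omega
  rw [tr_diag hf X.two (fun i => if i ∈ s then -1 else 1) fun i => by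
      split_ifs with hi
      · rw [hneg i hi, neg_one_smul]
      · rw [hfix i hi, one_smul], Finset.sum_ite, Finset.sum_const, Finset.sum_const, Finset.filter_mem_eq_inter,
    Finset.univ_inter, h2, Finset.filter_not, Finset.card_sdiff_of_subset (Finset.filter_subset _ _),
    Finset.filter_mem_eq_inter, Finset.univ_inter, h2, Finset.card_univ, Fintype.card_fin]
  norm_num

omit [DecidableEq F] in
/-- The half turn about an anisotropic line. -/
noncomputable def half (_X : Data q q₁ q₂) (u : Fin 3 → F) : O q₁ := negO q₁ * refl q₁ u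

theorem app_half (u x : Fin 3 → F) : app (X.half u) x = ((q₁ u)⁻¹ * polar q₁ x u) • u - x := by
  rw [half, app_mul, app_negO, app_refl, neg_sub]

theorem det_half {u : Fin 3 → F} (hu : q₁ u ≠ 0) : detHom q₁ (X.half u) = 1 := by
  rw [half, map_mul, detHom_negO q₁ (by simp; exact ⟨1, rfl⟩), detHom_refl hu, neg_mul_neg, one_mul]

theorem half_sq {u : Fin 3 → F} (hu : q₁ u ≠ 0) : X.half u * X.half u = 1 := ext_app fun x => by
  rw [app_mul, app_one, app_half, app_half, polar_sub_left, polar_smul_left, polar_self', smul_eq_mul,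
    show (q₁ u)⁻¹ * ((q₁ u)⁻¹ * polar q₁ x u * (2 * q₁ u) - polar q₁ x u) = (q₁ u)⁻¹ * polar q₁ x u by
      field_simp; ring]
  module

include X in
/-- A rotation of order two of the left factor is a half turn. -/
theorem exists_half {a : O q₁} (ha : a * a = 1) (hd1 : detHom q₁ a = 1) (ha1 : a ≠ 1) :
    ∃ u, q₁ u ≠ 0 ∧ a = X.half u ∧ app a u = u := by
  classical
  obtain ⟨d, hd⟩ := CfsgLib.OrthOmega.exists_not_square X.two
  obtain ⟨f, hf, hfe⟩ := exists_frame_comm X.nd₁ X.two ha ha rfl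
  obtain ⟨s, hneg, hfix, hchi⟩ := chiPair_diag hf X.two hd fun i => (hfe i).1
  have hdet := detHom_eq X.nd₁ X.two hd a
  rw [hd1] at hdet
  have h : (∏ i ∈ s, cls (q₁ (f i))).1 * (∏ i ∈ s, cls (q₁ (f i))).2 = (-1 : ℤˣ) ^ s.card := by
    rw [Prod.fst_prod, Prod.snd_prod, ← Finset.prod_mul_distrib]
    simp only [cls_prod_units, Finset.prod_const]
  rw [← hchi] at h
  change chi q₁ 1 a * chi q₁ d a = _ at h
  rw [h] at hdet
  have hev : Even s.card := by
    rcases Nat.even_or_odd s.card with he | ho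
    · exact he
    · exfalso
      rw [ho.neg_one_pow] at hdet
      exact X.two (by have := congrArg Units.val hdet; simp at this; linear_combination this)
  have hle : s.card ≤ 3 := (Finset.card_le_univ s).trans (by simp)
  have h0 : s.card ≠ 0 := fun h0 => ha1 (ext_frame hf X.two fun i => by
    rw [hfix i (by rw [Finset.card_eq_zero.1 h0]; simp), app_one])
  have h2 : sᶜ.card = 1 := by
    rw [Finset.card_compl, Fintype.card_fin]; obtain ⟨m, hm⟩ := hev; omega
  obtain ⟨k, hk⟩ := Finset.card_eq_one.1 h2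
  have hmem : ∀ i, i ∉ s ↔ i = k := fun i => by
    rw [← Finset.mem_compl, hk, Finset.mem_singleton]
  refine ⟨f k, hf.ne k, ext_frame hf X.two fun i => ?_, hfix k ((hmem k).2 rfl)⟩
  rw [app_half]
  by_cases hi : i = k
  · rw [hi, hfix k ((hmem k).2 rfl), polar_self']
    have := hf.ne k
    match_scalars <;> field_simp <;> ring
  · rw [hneg i (not_not.1 fun h => hi ((hmem i).1 h)), hf.ortho i k hi, mul_zero, zero_smul, zero_sub]

theorem tr_half {u : Fin 3 → F} (hu : q₁ u ≠ 0) : tr (X.half u) = -1 := by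
  have e : app (X.half u) = ((q₁ u)⁻¹ • q₁.polarBilin.flip u).smulRight u - LinearMap.id :=
    LinearMap.ext fun x => by rw [app_half]; simp
  rw [tr, e, map_sub, LinearMap.trace_smulRight, LinearMap.trace_id, Module.finrank_fin_fun]
  simp only [LinearMap.smul_apply, LinearMap.flip_apply, polarBilin_apply_apply, polar_self', smul_eq_mul]
  field_simp
  norm_num

theorem tr_emb (a : O q₁) (b : O q₂) : tr (X.emb (a, b)) = tr a * tr b := by
  classical
  have e : app (X.emb (a, b)) = X.lift (app a) (app b) := X.ext_τ fun x y => by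
    rw [X.app_emb, X.lift_τ]
  have hb : app b = ∑ j, (LinearMap.proj j : (Fin 4 → F) →ₗ[F] F).smulRight (app b (Pi.single j 1)) :=
    LinearMap.ext fun y => by
      conv_lhs => rw [pi_eq_sum_univ' y, map_sum]
      rw [LinearMap.sum_apply]
      refine Finset.sum_congr rfl fun j _ => ?_
      simp [map_smul]
  have hbt : tr b = ∑ j, app b (Pi.single j 1) j := by
    conv_lhs => rw [tr, hb, map_sum]
    refine Finset.sum_congr rfl fun j _ => ?_
    rw [LinearMap.trace_smulRight]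
    rfl
  rw [hbt, tr, e, lift, map_sum, Finset.mul_sum]
  refine Finset.sum_congr rfl fun j _ => ?_
  rw [LinearMap.trace_comp_comm']
  have : ((app a).comp (X.C (toVec X.nd₂ (LinearMap.proj j)))).comp
      ((LinearMap.flip X.τ) (app b (Pi.single j 1))) = app b (Pi.single j 1) j • app a :=
    LinearMap.ext fun x => by
      simp only [LinearMap.comp_apply, LinearMap.flip_apply, X.C_τ, LinearMap.smul_apply, map_smul]
      rw [polar_comm, polar_toVec, LinearMap.proj_apply]
  rw [this, map_smul, smul_eq_mul, mul_comm]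
  rfl

/-- The involutions of the stabiliser. -/
theorem invol_cases {g : O q} (hg : g ∈ X.H) (h2 : g * g = 1) (h1 : g ≠ 1) :
    (∃ u, q₁ u ≠ 0 ∧ g = X.emb (X.half u, 1) ∧ tr g = -4) ∨
      (∃ a b, detHom q₁ a = 1 ∧ a * a = 1 ∧ b ∈ commutator (O q₂) ∧ b * b = 1 ∧ b ≠ 1 ∧
        g = X.emb (a, b) ∧ tr g = 0) := by
  obtain ⟨a, b, ha, hb, rfl⟩ := X.exists_eq hg
  obtain ⟨ha2, hb2⟩ := X.emb_eq_one (a := a * a) (b := b * b) (by rw [map_mul, ha, one_mul]) (by
    rw [show ((a * a, b * b) : O q₁ × O q₂) = (a, b) * (a, b) from rfl, map_mul, h2])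
  by_cases hb1 : b = 1
  · subst hb1
    obtain ⟨u, hu, rfl, -⟩ := X.exists_half ha2 ha fun h => h1 (by
      rw [h, show ((1 : O q₁), (1 : O q₂)) = 1 from rfl, map_one])
    refine Or.inl ⟨u, hu, rfl, ?_⟩
    rw [tr_emb, X.tr_half hu, tr_one, Fintype.card_fin]
    norm_num
  · exact Or.inr ⟨a, b, ha, ha2, hb, hb2, hb1, rfl, by rw [tr_emb, X.tr_right hb2 hb hb1, mul_zero]⟩

include X in
theorem four_ne : (-4 : F) ≠ 0 := by
  rw [show (-4 : F) = -(2 * 2) by norm_num, neg_ne_zero]
  exact mul_ne_zero X.two X.two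

end Data

end CfsgLib.TensorMinus
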