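import Cfsg.Agent.Lib.TensorMinus.Members
import Cfsg.Agent.Lib.TensorMax63.Root

/-!
An overgroup containing a non-trivial isometry which is the identity modulo a singular slice contains `Ω`.
-/

set_option autoImplicit false
set_option linter.unusedSectionVars false
set_option linter.unusedSimpArgs false

namespace CfsgLib.TensorMinus

open Matrix QuadraticMap CfsgLib.Orth CfsgLib.TensorMax63
open CfsgLib.GeomClasses (OrthTools.orth OrthTools.mem_orth OrthEich.Full)

variable {ι : Type} [Fintype ι] [DecidableEq ι] {F : Type*} [Field F] [Fintype F] [DecidableEq F]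
  {q : QuadraticForm F (ι → F)} {q₁ : QuadraticForm F (Fin 3 → F)}
  {q₂ : QuadraticForm F (Fin 4 → F)} (X : Data q q₁ q₂)

namespace Data

include X in
theorem seven : 7 ≤ Fintype.card ι := by rw [X.card_ι]; norm_num

include X in
/-- The middle plane is anisotropic. -/
theorem mid_spec {w w' : Fin 4 → F} (P : Hyp q₂ w w') :
    2 ≤ Module.finrank F (mid q₂ w w') ∧ mid q₂ w w' ≠ ⊥ ∧ ∀ s ∈ mid q₂ w w', q₂ s = 0 → s = 0 := by
  have h := P.finrank_mid X.nd₂
  rw [Fintype.card_fin] at h
  refine ⟨by omega, fun hb => by rw [hb, finrank_bot] at h; omega, fun s hs hqs => ?_⟩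
  by_contra hs0
  obtain ⟨hws, hw's⟩ := mem_mid.1 hs
  have hli : LinearIndependent F ![w, s] := by
    rw [LinearIndependent.pair_iff]
    intro a b hab
    have h1 := congrArg (fun z => polar q₂ z w') hab
    simp only [polar_add_left, polar_smul_left, P.pair, polar_comm (f := ⇑q₂) s w', hw's, polar_zero_left,
      smul_eq_mul, mul_one, mul_zero, add_zero] at h1
    rw [h1, zero_smul, zero_add, smul_eq_zero] at hab
    exact ⟨h1, hab.resolve_right hs0⟩
  obtain ⟨z, hz, hqz⟩ := X.minus (Submodule.span F (Set.range ![w, s])) (by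
    rw [finrank_span_eq_card hli, Fintype.card_fin])
  rw [Matrix.range_cons_cons_empty] at hz
  obtain ⟨a, b, rfl⟩ := Submodule.mem_span_pair.1 hz
  refine hqz ?_
  rw [QuadraticMap.map_add ⇑q₂, QuadraticMap.map_smul, QuadraticMap.map_smul, polar_smul_left, polar_smul_right,
    P.q₁, hqs, hws]
  simp

include X in
theorem pair_mem₂ {u v : Fin 4 → F} (hu : q₂ u ≠ 0) (huv : IsSquare (q₂ u * q₂ v)) (hv : q₂ v ≠ 0) :
    refl q₂ u * refl q₂ v ∈ commutator (O q₂) := by
  obtain ⟨d, hd⟩ := CfsgLib.OrthOmega.exists_not_square X.two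
  rw [commutator_eq X.nd₂ X.two hd, MonoidHom.mem_ker, map_mul, chiPair_cls X.two hd hu, chiPair_cls X.two hd hv,
    cls_mul_cls X.two hu hv, cls, if_pos huv]
  exact units_sq _

include X in
theorem mid_value {w w' : Fin 4 → F} (P : Hyp q₂ w w') {c : F} (hc : c ≠ 0) :
    ∃ e ∈ mid q₂ w w', q₂ e = c := by
  obtain ⟨d, hd⟩ := CfsgLib.OrthOmega.exists_not_square X.two
  exact CfsgLib.OrthOmega.exists_value_sub X.two _ (P.nondeg_mid X.nd₂).sep (X.mid_spec P).1 hc

/-! ### The identity modulo a slice -/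

/-- `z ↦ z + K(C_w z) ⊗ w`. -/
noncomputable def zmap (w : Fin 4 → F) (K : (Fin 3 → F) →ₗ[F] (Fin 3 → F)) : (ι → F) →ₗ[F] (ι → F) :=
  LinearMap.id + ((LinearMap.flip X.τ) w).comp (K.comp (X.C w))

theorem zmap_apply (w : Fin 4 → F) (K : (Fin 3 → F) →ₗ[F] (Fin 3 → F)) (z : ι → F) :
    X.zmap w K z = z + X.τ (K (X.C w z)) w := rfl

theorem zmap_zmap {w : Fin 4 → F} (hw : q₂ w = 0) (K L : (Fin 3 → F) →ₗ[F] (Fin 3 → F)) (z : ι → F) :
    X.zmap w K (X.zmap w L z) = X.zmap w (K + L) z := by
  rw [zmap_apply, zmap_apply, zmap_apply, map_add, X.C_τ, polar_self', hw, mul_zero, zero_smul, add_zero,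
    LinearMap.add_apply, map_add, LinearMap.add_apply]
  abel

open scoped Classical in
/-- The isometry of a skew map at a singular slice. -/
noncomputable def zel (w : Fin 4 → F) (K : (Fin 3 → F) →ₗ[F] (Fin 3 → F)) : O q :=
  if h : q₂ w = 0 ∧ IsSkew q₁ K then
    mkO (X.zmap w K) (X.zmap w (-K))
      (LinearMap.ext fun z => by
        rw [LinearMap.comp_apply, X.zmap_zmap h.1, add_neg_cancel, zmap_apply]; simp)
      (LinearMap.ext fun z => by
        rw [LinearMap.comp_apply, X.zmap_zmap h.1, neg_add_cancel, zmap_apply]; simp)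
      (fun z => by
        rw [zmap_apply, QuadraticMap.map_add ⇑q, X.q_τ_singular _ h.1, add_zero, ← X.polar_C]
        have := h.2 (X.C w z) (X.C w z)
        rw [polar_comm (f := ⇑q₁) (K (X.C w z)), ← two_mul] at this
        rw [(mul_eq_zero.1 this).resolve_left X.two, add_zero])
  else 1

theorem app_zel {w : Fin 4 → F} (hw : q₂ w = 0) {K : (Fin 3 → F) →ₗ[F] (Fin 3 → F)} (hK : IsSkew q₁ K)
    (z : ι → F) : app (X.zel w K) z = z + X.τ (K (X.C w z)) w := by
  rw [zel, dif_pos ⟨hw, hK⟩, app_mkO, zmap_apply]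

theorem eich_slice {w : Fin 4 → F} (hw : q₂ w = 0) (a a' : Fin 3 → F) :
    eich q (X.τ a w) (X.τ a' w) = X.zel w (skew q₁ a a') := by
  have h : polar q (X.τ a w) (X.τ a' w) = 0 := by rw [X.polar_τ, polar_self', hw, mul_zero, mul_zero]
  refine ext_app fun z => ?_
  rw [X.app_zel hw (isSkew_skew a a'), app_eich (X.q_τ_singular a hw) h, ← X.polar_C, ← X.polar_C, skew_apply,
    map_sub, map_smul, map_smul, LinearMap.sub_apply, LinearMap.smul_apply, LinearMap.smul_apply,
    X.q_τ_singular a' hw, polar_comm (f := ⇑q₁) a, polar_comm (f := ⇑q₁) a']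
  module

/-- The isometries which are the identity modulo the slice of `w` and on it. -/
def InZ (w : Fin 4 → F) (y : O q) : Prop :=
  (∀ x, app y (X.τ x w) = X.τ x w) ∧ ∀ z, ∃ x, app y z - z = X.τ x w

theorem exists_zel {w w' : Fin 4 → F} (P : Hyp q₂ w w') {y : O q} (hy : X.InZ w y) :
    ∃ K, IsSkew q₁ K ∧ y = X.zel w K := by
  let xf : (ι → F) →ₗ[F] (Fin 3 → F) := (X.C w').comp (app y - LinearMap.id)
  have hx : ∀ z, app y z = z + X.τ (xf z) w := by
    intro z
    obtain ⟨x, hx⟩ := hy.2 z
    have : xf z = x := by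
      show X.C w' (app y z - z) = x
      rw [hx, X.C_τ, P.pair, one_smul]
    rw [this, ← hx, add_sub_cancel]
  let K : (Fin 3 → F) →ₗ[F] (Fin 3 → F) := xf.comp ((LinearMap.flip X.τ) w')
  have hiso : ∀ z a, polar q₁ (xf z) a + polar q₁ (X.C w z) (K a) = 0 := by
    intro z a
    have h := polar_app y z (X.τ a w')
    rw [hx z, hx (X.τ a w'), polar_add_left, polar_add_right, polar_add_right, X.polar_τ, X.polar_τ, P.pair,
      P.self₁, mul_one, mul_zero, add_zero, ← X.polar_C w z] at h
    show polar q₁ (xf z) a + polar q₁ (X.C w z) (xf (X.τ a w')) = 0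
    linear_combination h
  have hK : IsSkew q₁ K := by
    intro a a'
    have h := hiso (X.τ a w') a'
    rw [X.C_τ, P.pair', one_smul] at h
    exact h
  refine ⟨K, hK, ext_app fun z => ?_⟩
  have hxz : xf z = K (X.C w z) := ext_polar X.nd₁ fun a => by
    linear_combination hiso z a - hK (X.C w z) a
  rw [X.app_zel P.q₁ hK, hx, hxz]

/-- A proper overgroup of the tensor stabiliser. -/
structure Over (M : Subgroup (O q)) : Prop where
  le : X.H ≤ M
  omega : M ≤ commutator (O q)
  proper : ¬ commutator (O q) ≤ M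

variable {M : Subgroup (O q)}

/-- The skew maps whose isometries lie in `M`. -/
def InW (M : Subgroup (O q)) (w : Fin 4 → F) (K : (Fin 3 → F) →ₗ[F] (Fin 3 → F)) : Prop :=
  IsSkew q₁ K ∧ X.zel w K ∈ M

theorem InW.add {w : Fin 4 → F} (hw : q₂ w = 0) {K L : (Fin 3 → F) →ₗ[F] (Fin 3 → F)}
    (hK : X.InW M w K) (hL : X.InW M w L) : X.InW M w (K + L) := by
  have hs : IsSkew q₁ (K + L) := fun x y => by
    rw [LinearMap.add_apply, LinearMap.add_apply, polar_add_left, polar_add_right]
    linear_combination hK.1 x y + hL.1 x y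
  refine ⟨hs, ?_⟩
  convert M.mul_mem hK.2 hL.2 using 1
  refine ext_app fun z => ?_
  rw [app_mul, X.app_zel hw hL.1, X.app_zel hw hK.1, X.app_zel hw hs, ← X.zmap_apply, ← X.zmap_apply,
    ← X.zmap_apply, X.zmap_zmap hw]

theorem InW.conj {w : Fin 4 → F} (hw : q₂ w = 0) {K : (Fin 3 → F) →ₗ[F] (Fin 3 → F)}
    (hK : X.InW M w K) {a : O q₁} {u : O q₂} {l : F} (hu : app u w = l • w) (h : X.emb (a, u) ∈ M) :
    X.InW M w ((l * l) • (app a).comp (K.comp (app a⁻¹))) := by
  have hs : IsSkew q₁ ((l * l) • (app a).comp (K.comp (app a⁻¹))) := fun x y => by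
    simp only [LinearMap.smul_apply, LinearMap.comp_apply, polar_smul_left, polar_smul_right, smul_eq_mul]
    have h1 : polar q₁ (app a (K (app a⁻¹ x))) y = polar q₁ (K (app a⁻¹ x)) (app a⁻¹ y) := by
      conv_lhs => rw [← app_app_inv a y, polar_app]
    have h2 : polar q₁ x (app a (K (app a⁻¹ y))) = polar q₁ (app a⁻¹ x) (K (app a⁻¹ y)) := by
      conv_lhs => rw [← app_app_inv a x, polar_app]
    rw [h1, h2]
    linear_combination (l * l) * hK.1 (app a⁻¹ x) (app a⁻¹ y)
  refine ⟨hs, ?_⟩
  convert M.mul_mem (M.mul_mem h hK.2) (M.inv_mem h) using 1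
  refine ext_app fun z => ?_
  rw [app_mul, app_mul, X.app_zel hw hK.1, map_add, app_app_inv, X.app_emb, X.app_zel hw hs,
    ← map_inv, X.C_emb]
  simp only [Prod.inv_mk, inv_inv, hu, LinearMap.smul_apply, LinearMap.comp_apply, map_smul,
    LinearMap.smul_apply, smul_smul]
  rw [X.C_smul]
  simp [smul_smul, mul_comm]

theorem InW.smul {w w' : Fin 4 → F} (P : Hyp q₂ w w') (hM : X.H ≤ M)
    {K : (Fin 3 → F) →ₗ[F] (Fin 3 → F)} (hK : X.InW M w K) (t : F) : X.InW M w (t • K) := by
  have hsq : ∀ c : F, c ≠ 0 → X.InW M w ((c * c) • K) := by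
    intro c hc
    have hq1 : q₂ (w + w') = 1 := by
      rw [QuadraticMap.map_add ⇑q₂, P.q₁, P.q₂, P.pair]; simp
    have hqc : q₂ (w + c • w') = c := by
      rw [QuadraticMap.map_add ⇑q₂, QuadraticMap.map_smul, P.q₁, P.q₂, polar_smul_right, P.pair]; simp
    obtain ⟨e₁, he₁, hqe₁⟩ := X.mid_value P (one_ne_zero (α := F))
    obtain ⟨e₂, he₂, hqe₂⟩ := X.mid_value P hc
    have hu : (refl q₂ (w + w') * refl q₂ e₁) * (refl q₂ (w + c • w') * refl q₂ e₂) ∈ commutator (O q₂) :=
      Subgroup.mul_mem _ (X.pair_mem₂ (by rw [hq1]; exact one_ne_zero)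
        (by rw [hq1, hqe₁, one_mul]; exact IsSquare.one) (by rw [hqe₁]; exact one_ne_zero))
        (X.pair_mem₂ (by rwa [hqc]) (by rw [hqc, hqe₂]; exact ⟨c, rfl⟩) (by rwa [hqe₂]))
    have hfix : ∀ e ∈ mid q₂ w w', ∀ x, x = w ∨ x = w' → app (refl q₂ e) x = x := by
      rintro e he x (rfl | rfl)
      · exact app_refl_of_ortho (mem_mid.1 he).1
      · exact app_refl_of_ortho (mem_mid.1 he).2
    have e1 : app ((refl q₂ (w + w') * refl q₂ e₁) * (refl q₂ (w + c • w') * refl q₂ e₂)) w = c • w := by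
      have e2 : app (refl q₂ (w + c • w')) w = -(c • w') := by
        rw [app_refl, polar_add_right, polar_smul_right, P.self₁, P.pair, hqc, smul_eq_mul]
        match_scalars <;> field_simp <;> ring
      have e3 : app (refl q₂ (w + w')) w' = -w := by
        rw [app_refl, polar_add_right, P.self₂, P.pair', hq1]
        module
      rw [app_mul, app_mul, app_mul, hfix e₂ he₂ w (Or.inl rfl), e2, map_neg, map_smul,
        hfix e₁ he₁ w' (Or.inr rfl), map_neg, map_smul, e3, smul_neg, neg_neg]
    have h := InW.conj X P.q₁ hK (l := c) (a := 1) (u := _) e1 (hM (X.right_mem hu))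
    convert h using 2
    exact LinearMap.ext fun z => by simp
  have hzero : X.InW M w 0 := by
    refine ⟨fun x y => by simp, ?_⟩
    convert M.one_mem
    exact ext_app fun z => by rw [X.app_zel P.q₁ (fun x y => by simp), app_one]; simp
  have hsq' : ∀ c : F, X.InW M w ((c * c) • K) := fun c => by
    rcases eq_or_ne c 0 with rfl | hc
    · rw [mul_zero, zero_smul]; exact hzero
    · exact hsq c hc
  obtain ⟨a, b, hab⟩ := exists_binary X.two (one_ne_zero (α := F)) one_ne_zero t
  have h := InW.add X P.q₁ (hsq' a) (hsq' b)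
  rw [← add_smul] at h
  convert h using 2
  linear_combination -hab

/-- All root elements of a slice. -/
def SliceFull (M : Subgroup (O q)) (w : Fin 4 → F) : Prop :=
  ∀ a a', eich q (X.τ a w) (X.τ a' w) ∈ M

theorem InW.all {w w' : Fin 4 → F} (P : Hyp q₂ w w') (hM : X.H ≤ M)
    {K : (Fin 3 → F) →ₗ[F] (Fin 3 → F)} (hK : X.InW M w K) (hK0 : K ≠ 0) : X.SliceFull M w := by
  have hcard : 3 ≤ Fintype.card (Fin 3) := by simp
  have hconj : ∀ v, q₁ v ≠ 0 → ∀ K, X.InW M w K →
      X.InW M w ((app (refl q₁ v)).comp (K.comp (app (refl q₁ v)⁻¹))) := by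
    intro v hv K hK
    have h := InW.conj X P.q₁ hK (l := 1) (a := X.half v) (u := 1) (by rw [one_smul, app_one])
      (hM (X.left_mem (X.det_half hv)))
    rw [one_mul, one_smul] at h
    have hinv : (X.half v)⁻¹ = X.half v := inv_eq_of_mul_eq_one_right (X.half_sq hv)
    have hn : ∀ x, app (X.half v) x = -app (refl q₁ v) x := fun x => by rw [Data.half, app_mul, app_negO]
    have e : (app (X.half v)).comp (K.comp (app (X.half v)⁻¹)) =
        (app (refl q₁ v)).comp (K.comp (app (refl q₁ v)⁻¹)) := LinearMap.ext fun z => by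
      simp only [LinearMap.comp_apply, hinv, refl_inv, hn, map_neg, neg_neg]
    rwa [e] at h
  have hskew : ∀ (g : O q₁) a b, (app g).comp ((skew q₁ a b).comp (app g⁻¹)) = skew q₁ (app g a) (app g b) := by
    intro g a b
    refine LinearMap.ext fun x => ?_
    have h : ∀ c, polar q₁ c (app g⁻¹ x) = polar q₁ (app g c) x := fun c => by
      rw [← polar_app g, app_app_inv]
    simp [skew_apply, h]
  have haddl : ∀ a a' b, skew q₁ (a + a') b = skew q₁ a b + skew q₁ a' b := fun a a' b =>
    LinearMap.ext fun x => by simp [skew_apply, polar_add_left]; module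
  have haddr : ∀ a b b', skew q₁ a (b + b') = skew q₁ a b + skew q₁ a b' := fun a b b' =>
    LinearMap.ext fun x => by simp [skew_apply, polar_add_left]; module
  have hsmull : ∀ (t : F) a b, skew q₁ (t • a) b = t • skew q₁ a b := fun t a b =>
    LinearMap.ext fun x => by simp [skew_apply, polar_smul_left, smul_sub, smul_smul, mul_comm]
  have hsmulr : ∀ (t : F) a b, skew q₁ a (t • b) = t • skew q₁ a b := fun t a b =>
    LinearMap.ext fun x => by simp [skew_apply, polar_smul_left, smul_sub, smul_smul, mul_comm]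
  have hzero : X.InW M w 0 := by simpa using InW.smul X P hM hK 0
  -- an element of rank two
  obtain ⟨x, hx, hKx⟩ : ∃ x, q₁ x ≠ 0 ∧ K x ≠ 0 := by
    by_contra hc
    push Not at hc
    exact hK0 (LinearMap.ext fun y => ext_aniso X.two (nondeg_top X.nd₁) (g := 0) (fun y _ hy => hc y hy) y trivial)
  have hxKx : polar q₁ x (K x) = 0 := by
    have := hK.1 x x
    rw [polar_comm (f := ⇑q₁) (K x), ← two_mul] at this
    exact (mul_eq_zero.1 this).resolve_left X.two
  have hpair : X.InW M w (skew q₁ x (K x)) := by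
    have h := InW.add X P.q₁ hK (InW.smul X P hM (hconj x hx K hK) (-1))
    have h' := InW.smul X P hM h (q₁ x)
    convert h' using 2
    refine LinearMap.ext fun z => ?_
    have hz : polar q₁ (K z) x = -polar q₁ z (K x) := eq_neg_of_add_eq_zero_left (hK.1 z x)
    simp only [LinearMap.smul_apply, LinearMap.add_apply, LinearMap.comp_apply, refl_inv, app_refl, map_sub,
      map_smul, polar_sub_left, polar_smul_left, hz, polar_comm (f := ⇑q₁) (K x) x, hxKx, skew_apply,
      polar_comm (f := ⇑q₁) z, smul_eq_mul]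
    match_scalars <;> field_simp <;> ring
  -- all pairs through one anisotropic vector
  let S : Submodule F (Fin 3 → F) :=
    { carrier := {y | polar q₁ x y = 0 ∧ X.InW M w (skew q₁ x y)}
      zero_mem' := ⟨polar_zero_right _ _, by
        convert hzero using 2
        exact LinearMap.ext fun z => by simp [skew_apply]⟩
      add_mem' := fun {y z} hy hz => ⟨by rw [polar_add_right, hy.1, hz.1, add_zero], by
        rw [haddr]; exact InW.add X P.q₁ hy.2 hz.2⟩
      smul_mem' := fun t y hy => ⟨by rw [polar_smul_right, hy.1, smul_zero], by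
        rw [hsmulr]; exact InW.smul X P hM hy.2 t⟩ }
  have hx0 : x ≠ 0 := fun h => hx (by rw [h, QuadraticMap.map_zero])
  have hdim := finrank_orth_one X.nd₁ X.two hcard x hx0
  rw [Fintype.card_fin] at hdim
  have hSX : S = (⊤ : Submodule F (Fin 3 → F)) ⊓ OrthTools.orth q₁ (Submodule.span F {x}) := by
    refine irreducible X.nd₁ X.two (nondeg_inf X.two (nondeg_top X.nd₁) trivial hx)
      (Or.inl X.five) (fun y hy => ⟨trivial, mem_orth_one.2 hy.1⟩) ⟨K x, ⟨hxKx, hpair⟩, hKx⟩ ?_
    intro u hu hu' y hy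
    have hux : app (refl q₁ u) x = x := app_refl_of_ortho (mem_orth_one.1 hu.2)
    refine ⟨by rw [← hux, polar_app]; exact hy.1, ?_⟩
    have := hconj u hu' _ hy.2
    rwa [hskew, hux] at this
  let U : Submodule F (Fin 3 → F) :=
    { carrier := {a | ∀ b, X.InW M w (skew q₁ a b)}
      zero_mem' := fun b => by
        convert hzero using 2
        exact LinearMap.ext fun z => by simp [skew_apply]
      add_mem' := fun {a a'} ha ha' b => by rw [haddl]; exact InW.add X P.q₁ (ha b) (ha' b)
      smul_mem' := fun t a ha b => by rw [hsmull]; exact InW.smul X P hM (ha b) t }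
  have hxU : x ∈ U := by
    intro b
    set c := (2 * q₁ x)⁻¹ * polar q₁ x b with hc
    have hb : b - c • x ∈ S := by
      rw [hSX]
      refine ⟨trivial, mem_orth_one.2 ?_⟩
      rw [polar_sub_right, polar_smul_right, polar_self', hc, smul_eq_mul]
      have := X.two
      field_simp
      ring
    convert hb.2 using 1
    exact LinearMap.ext fun z => by simp [skew_apply, polar_sub_left, polar_smul_left]; module
  have hU : U = ⊤ := by
    refine irreducible X.nd₁ X.two (nondeg_top X.nd₁) (Or.inl X.five) le_top ⟨x, hxU, hx0⟩ ?_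
    intro u _ hu' a ha b
    have := hconj u hu' _ (ha (app (refl q₁ u)⁻¹ b))
    rwa [hskew, app_app_inv] at this
  intro a a'
  rw [X.eich_slice P.q₁]
  exact ((hU ▸ trivial : a ∈ U) a').2

theorem sliceFull_transport (hM : X.H ≤ M) {w w' : Fin 4 → F} (hw : q₂ w = 0) (hw' : q₂ w' = 0)
    (hne : polar q₂ w w' ≠ 0) (hf : X.SliceFull M w) : X.SliceFull M w' := by
  have hd : q₂ (w - w') = -polar q₂ w w' := by
    rw [sub_eq_add_neg, QuadraticMap.map_add ⇑q₂, QuadraticMap.map_neg, polar_neg_right, hw, hw']; simp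
  have hd0 : q₂ (w - w') ≠ 0 := by rw [hd]; exact neg_ne_zero.2 hne
  have hr : app (refl q₂ (w - w')) w = w' := by
    rw [app_refl, hd, polar_sub_right, polar_self', hw, mul_zero, zero_sub]
    field_simp
    module
  have P : Hyp q₂ w ((polar q₂ w w')⁻¹ • w') := ⟨hw, by rw [QuadraticMap.map_smul, hw', smul_zero],
    by rw [polar_smul_right, smul_eq_mul, inv_mul_cancel₀ hne]⟩
  obtain ⟨e, he, hqe⟩ := X.mid_value P hd0
  have hre : app (refl q₂ e) w = w := app_refl_of_ortho (mem_mid.1 he).1
  have hb := X.right_mem (X.pair_mem₂ hd0 (v := e) (by rw [hqe]; exact ⟨_, rfl⟩) (by rwa [hqe]))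
  intro x x'
  have h := M.mul_mem (M.mul_mem (hM hb) (hf x x')) (M.inv_mem (hM hb))
  rwa [eich_conj (X.q_τ_singular _ hw) (by rw [X.polar_τ, polar_self', hw, mul_zero, mul_zero]), X.app_emb,
    X.app_emb, app_one, app_one, app_mul, hre, hr] at h

theorem off_axes (hM : X.H ≤ M) {w w' : Fin 4 → F} (P : Hyp q₂ w w') (hf : X.SliceFull M w)
    {a : Fin 3 → F} (ha : a ≠ 0) : ∀ z v, polar q₁ a z = 0 →
      eich q (X.τ a w) (X.τ z v) ∈ M := by
  have hu : q (X.τ a w) = 0 := X.q_τ_singular a P.q₁
  let S : Submodule F (ι → F) :=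
    { carrier := {c | polar q (X.τ a w) c = 0 ∧ ∀ t : F, eich q (X.τ a w) (t • c) ∈ M}
      zero_mem' := ⟨polar_zero_right _ _, fun t => by
        rw [smul_zero, ← zero_smul F (X.τ a w), eich_smul_self hu]; exact M.one_mem⟩
      add_mem' := fun {c c'} hc hc' => ⟨by rw [polar_add_right, hc.1, hc'.1, add_zero], fun t => by
        rw [smul_add, ← eich_add hu (by rw [polar_smul_right, hc.1, smul_zero])
          (by rw [polar_smul_right, hc'.1, smul_zero])]
        exact M.mul_mem (hc.2 t) (hc'.2 t)⟩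
      smul_mem' := fun s c hc => ⟨by rw [polar_smul_right, hc.1, smul_zero], fun t => by
        rw [smul_smul]; exact hc.2 _⟩ }
  have hSw : ∀ x, X.τ x w ∈ S := fun x => ⟨by rw [X.polar_τ, P.self₁, mul_zero], fun t => by
    rw [← LinearMap.smul_apply, ← map_smul]; exact hf a _⟩
  have hmid := (X.mid_spec P).2.1
  have hspanB := P.span_nonorth X.nd₂ X.two hmid
  have hfull : ∀ v, q₂ v = 0 → polar q₂ w v ≠ 0 → X.SliceFull M v := fun v hv hwv =>
    X.sliceFull_transport hM P.q₁ hv hwv hf
  have hstep : ∀ v' y z b v, q₂ v' = 0 → X.SliceFull M v' → polar q₁ a y * polar q₂ w v' = 0 →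
      polar q₁ a z * polar q₂ w v' = 0 → polar q₁ b y = 1 → polar q₁ b z = 0 → polar q₂ v v' ≠ 0 →
      X.τ b v ∈ S → X.τ z v' ∈ S := by
    intro v' y z b v hv' hfv hy hz hby hbz hvv hc
    set g := eich q (X.τ y v') (X.τ z v') with hg
    have hyz : polar q (X.τ y v') (X.τ z v') = 0 := by rw [X.polar_τ, polar_self', hv', mul_zero, mul_zero]
    have hgu : app g (X.τ a w) = X.τ a w := by
      rw [hg, app_eich (X.q_τ_singular y hv') hyz, X.polar_τ, X.polar_τ, hy, hz, X.q_τ_singular z hv']
      simp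
    have hgc : app g (X.τ b v) = X.τ b v + polar q₂ v v' • X.τ z v' := by
      rw [hg, app_eich (X.q_τ_singular y hv') hyz, X.polar_τ, X.polar_τ, hby, hbz, X.q_τ_singular z hv']
      simp
    have hmem : app g (X.τ b v) ∈ S := by
      refine ⟨by rw [← hgu, polar_app]; exact hc.1, fun t => ?_⟩
      have h := M.mul_mem (M.mul_mem (hfv y z) (hc.2 t)) (M.inv_mem (hfv y z))
      rwa [eich_conj hu (by rw [polar_smul_right, hc.1, smul_zero]), hgu, map_smul] at h
    rw [hgc] at hmem
    exact (Submodule.smul_mem_iff S hvv).1 (by simpa using S.sub_mem hmem hc)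
  -- tensors with left factor orthogonal to `a`
  have hperp : ∀ z v, polar q₁ a z = 0 → X.τ z v ∈ S := by
    intro z v hz
    obtain ⟨y, hy, hyz⟩ := exists_notMem (S := Submodule.span F {z})
      (Y := OrthTools.orth q₁ (Submodule.span F {a})) (by
      rw [CfsgLib.GeomClasses.OrthTools.finrank_orth X.nd₁, finrank_span_singleton ha, Fintype.card_fin]
      have := finrank_span_le_card (R := F) ({z} : Set (Fin 3 → F))
      simp at this
      omega)
    obtain ⟨b, hb, hby⟩ := exists_dual X.nd₁ hyz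
    induction hspanB v using Submodule.span_induction with
    | mem v' hv' =>
      exact hstep v' y z b w hv'.1 (hfull v' hv'.1 hv'.2) (by rw [mem_orth_one.1 hy, zero_mul])
        (by rw [hz, zero_mul]) (by rw [polar_comm]; exact hby)
        (by rw [polar_comm]; exact hb z (Submodule.mem_span_singleton_self z)) hv'.2 (hSw b)
    | zero => rw [map_zero]; exact S.zero_mem
    | add v v' _ _ hv hv' => rw [map_add]; exact S.add_mem hv hv'
    | smul t v _ hv => rw [map_smul]; exact S.smul_mem t hv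
  intro z v hz
  simpa using (hperp z v hz).2 1

theorem full_centre (hM : X.H ≤ M) {w w' : Fin 4 → F} (P : Hyp q₂ w w') (hf : X.SliceFull M w)
    {a : Fin 3 → F} (hqa : q₁ a ≠ 0) : CfsgLib.GeomClasses.OrthEich.Full M (X.τ a w) := by
  have ha : a ≠ 0 := fun h => hqa (by rw [h, QuadraticMap.map_zero])
  have hu : q (X.τ a w) = 0 := X.q_τ_singular a P.q₁
  let S : Submodule F (ι → F) :=
    { carrier := {c | polar q (X.τ a w) c = 0 ∧ ∀ t : F, eich q (X.τ a w) (t • c) ∈ M}
      zero_mem' := ⟨polar_zero_right _ _, fun t => by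
        rw [smul_zero, ← zero_smul F (X.τ a w), eich_smul_self hu]; exact M.one_mem⟩
      add_mem' := fun {c c'} hc hc' => ⟨by rw [polar_add_right, hc.1, hc'.1, add_zero], fun t => by
        rw [smul_add, ← eich_add hu (by rw [polar_smul_right, hc.1, smul_zero])
          (by rw [polar_smul_right, hc'.1, smul_zero])]
        exact M.mul_mem (hc.2 t) (hc'.2 t)⟩
      smul_mem' := fun s c hc => ⟨by rw [polar_smul_right, hc.1, smul_zero], fun t => by
        rw [smul_smul]; exact hc.2 _⟩ }
  have hSw : ∀ x, X.τ x w ∈ S := fun x => ⟨by rw [X.polar_τ, P.self₁, mul_zero], fun t => by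
    rw [← LinearMap.smul_apply, ← map_smul]; exact hf a _⟩
  have hperp : ∀ z v, polar q₁ a z = 0 → X.τ z v ∈ S := fun z v hz =>
    ⟨by rw [X.polar_τ, hz, zero_mul], fun t => by
      rw [← map_smul]; exact X.off_axes hM P hf ha z _ hz⟩
  have hap : ∀ p ∈ mid q₂ w w', X.τ a p ∈ S := by
    intro p hp
    obtain ⟨hwp, hw'p⟩ := mem_mid.1 hp
    obtain ⟨x, hx, hqx⟩ := exists_aniso (nondeg_inf X.two (nondeg_top X.nd₁) trivial hqa) fun h => by
      have h1 := finrank_inf_ge X.nd₁ (⊤ : Submodule F (Fin 3 → F)) a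
      rw [h, finrank_bot, finrank_top, Module.finrank_fin_fun] at h1
      omega
    have hax := mem_orth_one.1 hx.2
    have hxa : polar q₁ x a = 0 := by rw [polar_comm]; exact hax
    have hx0 : x ≠ 0 := fun h => hqx (by rw [h, QuadraticMap.map_zero])
    set g := eich q (X.τ x w) (X.τ a p) with hg
    have hg0 : polar q (X.τ x w) (X.τ a p) = 0 := by rw [X.polar_τ, hxa, zero_mul]
    have hgM : g ∈ M := X.off_axes hM P hf hx0 a p hxa
    have hgu : app g (X.τ a w) = X.τ a w := by
      rw [hg, app_eich (X.q_τ_singular x P.q₁) hg0, X.polar_τ, X.polar_τ, P.self₁, hwp]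
      simp
    have hc := hperp x w' hax
    have hgc : app g (X.τ x w') ∈ S := by
      refine ⟨by rw [← hgu, polar_app]; exact hc.1, fun t => ?_⟩
      have h := M.mul_mem (M.mul_mem hgM (hc.2 t)) (M.inv_mem hgM)
      rwa [eich_conj hu (by rw [polar_smul_right, hc.1, smul_zero]), hgu, map_smul] at h
    have h2x : 2 * q₁ x ≠ 0 := mul_ne_zero X.two hqx
    refine (Submodule.smul_mem_iff S h2x).1 ?_
    have h := S.add_mem (S.sub_mem hgc hc) (S.smul_mem (polar q (X.τ x w') (X.τ a p) +
      q (X.τ a p) * (2 * q₁ x)) (hperp x w hax))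
    convert h using 1
    rw [hg, app_eich (X.q_τ_singular x P.q₁) hg0, X.polar_τ x w' x w, P.pair', polar_self', mul_one]
    module
  have hright : ∀ z v, polar q₂ w v = 0 → X.τ z v ∈ S := by
    intro z v hv
    have hp := P.proj_mem v
    rw [hv, zero_smul, sub_zero] at hp
    set c := (2 * q₁ a)⁻¹ * polar q₁ a z with hc
    have hz : polar q₁ a (z - c • a) = 0 := by
      rw [polar_sub_right, polar_smul_right, polar_self', hc, smul_eq_mul]
      have := X.two
      field_simp
      ring
    have h := S.add_mem (hperp _ v hz) (S.smul_mem c (S.add_mem (hap _ hp) (S.smul_mem (polar q₂ w' v) (hSw a))))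
    convert h using 1
    simp only [map_sub, map_smul, LinearMap.sub_apply, LinearMap.smul_apply]
    module
  refine ⟨hu, fun c hc => ?_⟩
  suffices c ∈ S by simpa using this.2 1
  rw [← LinearMap.BilinForm.orthogonal_orthogonal X.nd (polarBilin_isRefl X.nd) S,
    LinearMap.BilinForm.mem_orthogonal_iff]
  intro z hz
  rw [LinearMap.BilinForm.mem_orthogonal_iff] at hz
  show polar q z c = 0
  obtain ⟨r, hr⟩ := exists_polar_eq_one X.nd₁ ha
  -- `z` is a multiple of `a ⊗ w`
  have hC : ∀ φ, X.C φ z = (polar q₂ w φ * polar q₁ (X.C w' z) r) • a := by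
    intro φ
    refine ext_polar X.nd₁ fun b => ?_
    have h1 : ∀ φ b, polar q₂ w φ = 0 → polar q₁ (X.C φ z) b = 0 := fun φ b h => by
      rw [X.polar_C, polar_comm]; exact hz _ (hright b φ h)
    have h2 : polar q₁ (X.C φ z) b = polar q₂ w φ * polar q₁ (X.C w' z) b := by
      have := h1 (φ - polar q₂ w φ • w') b (by
        rw [polar_sub_right, polar_smul_right, P.pair, smul_eq_mul, mul_one, sub_self])
      rw [X.C_sub, X.C_smul, polar_sub_left, polar_smul_left, smul_eq_mul] at this
      linear_combination this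
    have h3 : polar q₁ (X.C w' z) b = polar q₁ (X.C w' z) r * polar q₁ a b := by
      have hb : polar q₁ a (b - polar q₁ a b • r) = 0 := by
        rw [polar_sub_right, polar_smul_right, hr, smul_eq_mul, mul_one, sub_self]
      have := hz _ (hperp (b - polar q₁ a b • r) w' hb)
      change polar q _ z = 0 at this
      rw [polar_comm, ← X.polar_C, polar_sub_right, polar_smul_right, smul_eq_mul] at this
      linear_combination this
    rw [h2, h3, polar_smul_left, smul_eq_mul]
    ring
  have hz' : z = polar q₁ (X.C w' z) r • X.τ a w := by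
    refine sub_eq_zero.1 (X.eq_zero fun φ => ?_)
    rw [map_sub, map_smul, X.C_τ, hC, smul_smul, mul_comm, sub_self]
  rw [hz', polar_smul_left, hc, smul_zero]

theorem commutator_le_of_sliceFull (hM : X.H ≤ M) {w w' : Fin 4 → F} (P : Hyp q₂ w w')
    (hf : X.SliceFull M w) : commutator (O q) ≤ M := by
  obtain ⟨a, ha⟩ := exists_anisotropic X.nd₁ (by simp)
  have hf' : X.SliceFull M w' := X.sliceFull_transport hM P.q₁ P.q₂ (by rw [P.pair]; exact one_ne_zero) hf
  refine CfsgLib.GeomClasses.OrthEich.commutator_le_of_pair X.nd X.seven (X.full_centre hM P hf ha)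
    (X.full_centre hM ⟨P.q₂, P.q₁, P.pair'⟩ hf' ha) ?_
  rw [X.polar_τ, P.pair', mul_one, polar_self']
  exact mul_ne_zero X.two ha

/-- A proper overgroup contains no isometry which is the identity modulo a singular slice. -/
theorem Over.inZ_eq_one (hO : X.Over M) {w w' : Fin 4 → F} (P : Hyp q₂ w w') {y : O q} (hy : y ∈ M)
    (hz : X.InZ w y) : y = 1 := by
  obtain ⟨K, hK, rfl⟩ := X.exists_zel P hz
  by_contra hne
  refine hO.proper (X.commutator_le_of_sliceFull hO.le P (InW.all X P hO.le ⟨hK, hy⟩ fun h => hne ?_))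
  subst h
  exact ext_app fun z => by rw [X.app_zel P.q₁ hK, app_one]; simp

end Data

end CfsgLib.TensorMinus
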