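import Cfsg.Agent.Lib.TensorMinus.Root
import Cfsg.Agent.Lib.TensorMax63.Slice

/-!
An element of a proper overgroup mapping one singular slice to a slice preserves the decomposition.
-/

set_option autoImplicit false
set_option linter.unusedSectionVars false
set_option linter.unusedSimpArgs false

namespace CfsgLib.TensorMinus

open Matrix QuadraticMap CfsgLib.Orth CfsgLib.TensorMax63
open CfsgLib.GeomClasses (OrthTools.orth OrthTools.mem_orth)

variable {ι : Type} [Fintype ι] [DecidableEq ι] {F : Type*} [Field F] [Fintype F] [DecidableEq F]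
  {q : QuadraticForm F (ι → F)} {q₁ : QuadraticForm F (Fin 3 → F)}
  {q₂ : QuadraticForm F (Fin 4 → F)} (X : Data q q₁ q₂)

namespace Data

/-- Contraction of the left factor. -/
noncomputable def D (a : Fin 3 → F) : (ι → F) →ₗ[F] (Fin 4 → F) :=
  (toVec X.nd₂).comp (LinearMap.compl₂ q.polarBilin (X.τ a))

theorem polar_D (a : Fin 3 → F) (z : ι → F) (φ : Fin 4 → F) :
    polar q₂ (X.D a z) φ = polar q z (X.τ a φ) := by
  rw [D, LinearMap.comp_apply, polar_toVec]
  rfl

theorem app_R {w b : Fin 4 → F} (hw : q₂ w = 0) (hb : polar q₂ w b = 0) (z : ι → F) :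
    app (X.emb (1, eich q₂ w b)) z =
      z + X.τ (X.C w z) b + X.τ (-(X.C b z) - q₂ b • X.C w z) w := by
  have h : app (X.emb (1, eich q₂ w b)) = LinearMap.id + ((LinearMap.flip X.τ) b).comp (X.C w) +
      ((LinearMap.flip X.τ) w).comp (-(X.C b) - q₂ b • X.C w) := X.ext_τ fun a c => by
    simp only [X.app_emb, app_one, app_eich hw hb, LinearMap.add_apply, LinearMap.id_apply, LinearMap.comp_apply,
      LinearMap.flip_apply, LinearMap.sub_apply, LinearMap.neg_apply, LinearMap.smul_apply, X.C_τ, map_add,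
      map_smul, map_sub, map_neg]
    module
  rw [h]
  rfl

/-- The isometries fixing a slice which are the identity on its orthogonal modulo the slice. -/
def InQ (w : Fin 4 → F) (y : O q) : Prop :=
  (∀ x, app y (X.τ x w) = X.τ x w) ∧ ∀ z, X.C w z = 0 → ∃ x, app y z - z = X.τ x w

theorem C_app_fix {w : Fin 4 → F} {y : O q} (hy : ∀ x, app y (X.τ x w) = X.τ x w) (z : ι → F) :
    X.C w (app y z) = X.C w z := by
  refine ext_polar X.nd₁ fun a => ?_
  rw [X.polar_C, X.polar_C]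
  conv_lhs => rw [← hy a, polar_app]

theorem C_map {w v : Fin 4 → F} {g : O q} {φ : (Fin 3 → F) →ₗ[F] (Fin 3 → F)}
    (hg : ∀ x, app g (X.τ x w) = X.τ (φ x) v) (z : ι → F) (a : Fin 3 → F) :
    polar q₁ (X.C v (app g z)) (φ a) = polar q₁ (X.C w z) a := by
  rw [X.polar_C, X.polar_C, ← hg, polar_app]

theorem InQ.conj {w v : Fin 4 → F} {g : O q} {φ : (Fin 3 → F) →ₗ[F] (Fin 3 → F)}
    (hφ : Function.Surjective φ) (hg : ∀ x, app g (X.τ x w) = X.τ (φ x) v) {y : O q} (hy : X.InQ w y) :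
    X.InQ v (g * y * g⁻¹) := by
  refine ⟨fun x => ?_, fun z hz => ?_⟩
  · obtain ⟨x, rfl⟩ := hφ x
    rw [app_mul, app_mul, ← hg, app_inv_app, hy.1]
  · have hz' : X.C w (app g⁻¹ z) = 0 := eq_zero_of_polar X.nd₁ fun a => by
      rw [← X.C_map hg, app_app_inv, hz, polar_zero_left]
    obtain ⟨x, hx⟩ := hy.2 _ hz'
    refine ⟨φ x, ?_⟩
    rw [← hg, ← hx, map_sub, app_app_inv, app_mul, app_mul]

theorem InQ.inv {w : Fin 4 → F} {y : O q} (hy : ∀ x, app y (X.τ x w) = X.τ x w) (x : Fin 3 → F) :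
    app y⁻¹ (X.τ x w) = X.τ x w := by
  conv_lhs => rw [← hy x, app_inv_app]

variable {M : Subgroup (O q)}

theorem InQ.comm (hO : X.Over M) {w w' : Fin 4 → F} (P : Hyp q₂ w w') {y y' : O q} (hyM : y ∈ M)
    (hyM' : y' ∈ M) (hy : X.InQ w y) (hy' : X.InQ w y') : y * y' = y' * y := by
  set k := y * y' * (y' * y)⁻¹ with hk
  suffices k = 1 by rwa [mul_inv_eq_one] at this
  refine Over.inZ_eq_one X hO P (M.mul_mem (M.mul_mem hyM hyM') (M.inv_mem (M.mul_mem hyM' hyM))) ⟨fun x => ?_, ?_⟩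
  · rw [hk, _root_.mul_inv_rev, app_mul, app_mul, app_mul, InQ.inv X hy'.1, InQ.inv X hy.1, hy'.1, hy.1]
  intro z
  obtain ⟨z, rfl⟩ : ∃ t, app (y' * y) t = z := ⟨app (y' * y)⁻¹ z, app_app_inv _ z⟩
  obtain ⟨r, hr⟩ := hy.2 (app y' z - z) (by rw [map_sub, X.C_app_fix hy'.1, sub_self])
  obtain ⟨r', hr'⟩ := hy'.2 (app y z - z) (by rw [map_sub, X.C_app_fix hy.1, sub_self])
  refine ⟨r - r', ?_⟩
  rw [hk, ← app_mul, inv_mul_cancel_right, app_mul, app_mul, map_sub, LinearMap.sub_apply, ← hr, ← hr', map_sub,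
    map_sub]
  abel

/-- The middle part of an element at the partner slice. -/
noncomputable def mov (y : O q) (w' : Fin 4 → F) : (Fin 3 → F) →ₗ[F] (ι → F) :=
  (app y - LinearMap.id).comp ((LinearMap.flip X.τ) w')

theorem mov_apply (y : O q) (w' : Fin 4 → F) (x : Fin 3 → F) :
    X.mov y w' x = app y (X.τ x w') - X.τ x w' := rfl

theorem C_mov {w w' : Fin 4 → F} {y : O q} (hy : ∀ x, app y (X.τ x w) = X.τ x w) (x : Fin 3 → F) :
    X.C w (X.mov y w' x) = 0 := by
  rw [mov_apply, map_sub, X.C_app_fix hy, sub_self]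

theorem symm_of_comm {w w' : Fin 4 → F} {y y' : O q} (hy : X.InQ w y) (hy' : X.InQ w y')
    (hc : y * y' = y' * y) (x x'' : Fin 3 → F) :
    polar q (X.mov y' w' x) (X.mov y w' x'') = polar q (X.mov y w' x) (X.mov y' w' x'') := by
  have key : ∀ {y : O q}, X.InQ w y → ∀ v, X.C w v = 0 →
      polar q (app y v - v) (X.τ x'' w') = -polar q v (X.mov y w' x'') := by
    intro y hy v hv
    obtain ⟨s, hs⟩ := hy.2 v hv
    have h := polar_app y v (X.τ x'' w')
    have e : app y v = v + (app y v - v) := by abel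
    have e' : app y (X.τ x'' w') = X.τ x'' w' + X.mov y w' x'' := by rw [mov_apply]; abel
    have h0 : polar q (X.τ s w) (X.mov y w' x'') = 0 := by
      rw [polar_comm, ← X.polar_C, X.C_mov hy.1, polar_zero_left]
    rw [e, e', polar_add_left, polar_add_right, polar_add_right, hs, h0, ← hs] at h
    linear_combination h
  have h : app y (X.mov y' w' x) - X.mov y' w' x = app y' (X.mov y w' x) - X.mov y w' x := by
    have h1 := congrArg (fun g => app g (X.τ x w')) hc
    simp only [app_mul] at h1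
    rw [mov_apply, mov_apply, map_sub, map_sub, h1]
    abel
  have : polar q (app y (X.mov y' w' x) - X.mov y' w' x) (X.τ x'' w') =
      polar q (app y' (X.mov y w' x) - X.mov y w' x) (X.τ x'' w') := by rw [h]
  rw [key hy _ (X.C_mov hy'.1 x), key hy' _ (X.C_mov hy.1 x)] at this
  exact neg_injective this

theorem eq_slice {w w' : Fin 4 → F} (P : Hyp q₂ w w') {v : ι → F} (hw : X.C w v = 0)
    (hmid : ∀ b ∈ mid q₂ w w', X.C b v = 0) : v = X.τ (X.C w' v) w := by
  refine sub_eq_zero.1 (X.eq_zero fun φ => ?_)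
  have h := hmid _ (P.proj_mem φ)
  rw [X.C_sub, X.C_sub, X.C_smul, X.C_smul, hw, smul_zero, sub_zero, sub_eq_zero] at h
  rw [map_sub, X.C_τ, h, sub_self]

/-- The movements of the elements of `M` centralising the factors of a singular slice. -/
noncomputable def movSpan (M : Subgroup (O q)) (w w' : Fin 4 → F) : Submodule F ((Fin 3 → F) →ₗ[F] (ι → F)) :=
  Submodule.span F {Y | ∃ y ∈ M, X.InQ w y ∧ Y = X.mov y w'}

include X in
/-- The basis adapted to a hyperbolic pair. -/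
theorem exists_mid_frame {w w' : Fin 4 → F} (P : Hyp q₂ w w') :
    ∃ e₁ e₂, e₁ ∈ mid q₂ w w' ∧ e₂ ∈ mid q₂ w w' ∧ IsFrame q₂ ![w + w', w - w', e₁, e₂] := by
  obtain ⟨hd, hne, -⟩ := X.mid_spec P
  obtain ⟨e₁, he₁, hq₁⟩ := exists_aniso (P.nondeg_mid X.nd₂) hne
  obtain ⟨e₂, he₂, hq₂⟩ := exists_aniso (nondeg_inf X.two (P.nondeg_mid X.nd₂) he₁ hq₁) fun h => by
    have h1 := finrank_inf_ge X.nd₂ (mid q₂ w w') e₁
    rw [h, finrank_bot] at h1
    omega
  obtain ⟨a₁, b₁⟩ := mem_mid.1 he₁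
  obtain ⟨a₂, b₂⟩ := mem_mid.1 he₂.1
  have h12 := mem_orth_one.1 he₂.2
  refine ⟨e₁, e₂, he₁, he₂.1, fun i => ?_, fun i k hik => ?_⟩
  · fin_cases i
    · show q₂ (w + w') ≠ 0
      rw [QuadraticMap.map_add ⇑q₂, P.q₁, P.q₂, P.pair]; simp
    · show q₂ (w - w') ≠ 0
      rw [sub_eq_add_neg, QuadraticMap.map_add ⇑q₂, QuadraticMap.map_neg, polar_neg_right, P.q₁, P.q₂, P.pair]
      simp
    · exact hq₁
    · exact hq₂
  · fin_cases i <;> fin_cases k <;> first
      | exact absurd rfl hik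
      | simp [polar_add_left, polar_sub_left, polar_add_right, polar_sub_right, P.self₁, P.self₂, P.pair, P.pair',
          a₁, b₁, a₂, b₂, h12, polar_comm (f := ⇑q₂) e₁ w, polar_comm (f := ⇑q₂) e₁ w',
          polar_comm (f := ⇑q₂) e₂ w, polar_comm (f := ⇑q₂) e₂ w', polar_comm (f := ⇑q₂) e₂ e₁]

/-- The pairing of two movements through the middle plane. -/
theorem polar_mid {w w' : Fin 4 → F} (P : Hyp q₂ w w') {e₁ e₂ : Fin 4 → F}
    (hf : IsFrame q₂ ![w + w', w - w', e₁, e₂]) (he₁ : e₁ ∈ mid q₂ w w') (he₂ : e₂ ∈ mid q₂ w w')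
    {v v' : ι → F} (hv : X.C w v = 0) (hv' : X.C w v' = 0) :
    polar q v v' = (2 * q₂ e₁)⁻¹ * polar q₁ (X.C e₁ v) (X.C e₁ v') +
      (2 * q₂ e₂)⁻¹ * polar q₁ (X.C e₂ v) (X.C e₂ v') := by
  obtain ⟨a₁, b₁⟩ := mem_mid.1 he₁
  obtain ⟨a₂, b₂⟩ := mem_mid.1 he₂
  have h12 : polar q₂ e₁ e₂ = 0 := hf.ortho 2 3 (by decide)
  have hq₁ : q₂ e₁ ≠ 0 := hf.ne 2
  have hq₂ : q₂ e₂ ≠ 0 := hf.ne 3
  have h2 := X.two
  have he : v' = X.τ (X.C w' v') w + X.τ ((2 * q₂ e₁)⁻¹ • X.C e₁ v') e₁ +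
      X.τ ((2 * q₂ e₂)⁻¹ • X.C e₂ v') e₂ := by
    refine sub_eq_zero.1 (X.eq_zero fun φ => ?_)
    have hlin : ∀ (φ ψ : Fin 4 → F) (t : F) (z : ι → F), X.C (t • φ + ψ) z = t • X.C φ z + X.C ψ z :=
      fun φ ψ t z => by rw [X.C_add, X.C_smul]
    conv_lhs => rw [hf.sum_eq h2 φ]
    rw [Fin.sum_univ_four]
    simp only [Matrix.cons_val_zero, Matrix.cons_val_one, Matrix.cons_val_two, Matrix.cons_val_three,
      Matrix.head_cons, Matrix.tail_cons, X.C_add, X.C_smul, map_sub, map_add, X.C_τ, X.C_sub, hv',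
      polar_add_left, polar_sub_left, polar_add_right, polar_sub_right, P.self₁, P.pair, P.self₂, P.pair', a₁,
      a₂, b₁, b₂, h12, polar_comm (f := ⇑q₂) e₁ w, polar_comm (f := ⇑q₂) e₁ w', polar_comm (f := ⇑q₂) e₂ w,
      polar_comm (f := ⇑q₂) e₂ w', polar_comm (f := ⇑q₂) e₂ e₁, polar_self']
    match_scalars <;> field_simp <;> ring
  conv_lhs => rw [he]
  rw [polar_add_right, polar_add_right, ← X.polar_C, ← X.polar_C, ← X.polar_C, hv, polar_zero_left,
    polar_smul_right, polar_smul_right, zero_add]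
  rfl

variable {M : Subgroup (O q)}

theorem movSpan_C {w w' : Fin 4 → F} {Y : (Fin 3 → F) →ₗ[F] (ι → F)} (hY : Y ∈ X.movSpan M w w') (x : Fin 3 → F) :
    X.C w (Y x) = 0 := by
  induction hY using Submodule.span_induction with
  | mem Y hY => obtain ⟨y, -, hy, rfl⟩ := hY; exact X.C_mov hy.1 x
  | zero => simp
  | add Y Y' _ _ h h' => rw [LinearMap.add_apply, map_add, h, h', add_zero]
  | smul t Y _ h => rw [LinearMap.smul_apply, map_smul, h, smul_zero]

theorem movSpan_symm (hO : X.Over M) {w w' : Fin 4 → F} (P : Hyp q₂ w w') {Y Y' : (Fin 3 → F) →ₗ[F] (ι → F)}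
    (hY : Y ∈ X.movSpan M w w') (hY' : Y' ∈ X.movSpan M w w') :
    ∀ x x'', polar q (Y' x) (Y x'') = polar q (Y x) (Y' x'') := by
  induction hY using Submodule.span_induction with
  | mem Y hY =>
    obtain ⟨y, hyM, hy, rfl⟩ := hY
    induction hY' using Submodule.span_induction with
    | mem Y' hY' =>
      obtain ⟨y', hyM', hy', rfl⟩ := hY'
      exact X.symm_of_comm hy hy' (InQ.comm X hO P hyM hyM' hy hy')
    | zero => intro x x''; simp
    | add Z Z' _ _ h h' =>
      intro x x''; rw [LinearMap.add_apply, LinearMap.add_apply, polar_add_left, polar_add_right, h, h']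
    | smul t Z _ h =>
      intro x x''; rw [LinearMap.smul_apply, LinearMap.smul_apply, polar_smul_left, polar_smul_right, h]
  | zero => intro x x''; simp
  | add Z Z' _ _ h h' =>
    intro x x''; rw [LinearMap.add_apply, LinearMap.add_apply, polar_add_left, polar_add_right, h, h']
  | smul t Z _ h =>
    intro x x''; rw [LinearMap.smul_apply, LinearMap.smul_apply, polar_smul_left, polar_smul_right, h]

theorem movSpan_half (hO : X.Over M) {w w' : Fin 4 → F} {u : Fin 3 → F} (hu : q₁ u ≠ 0)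
    {Y : (Fin 3 → F) →ₗ[F] (ι → F)} (hY : Y ∈ X.movSpan M w w') :
    (app (X.emb (X.half u, 1))).comp (Y.comp (app (X.half u))) ∈ X.movSpan M w w' := by
  induction hY using Submodule.span_induction with
  | mem Y hY =>
    obtain ⟨y, hyM, hy, rfl⟩ := hY
    set h := X.emb (X.half u, 1) with hh
    have hM' : h ∈ M := hO.le (X.left_mem (X.det_half hu))
    have hmap : ∀ x, app h (X.τ x w) = X.τ (app (X.half u) x) w := fun x => by rw [hh, X.app_emb, app_one]
    have hinv : ∀ x, app (X.half u) (app (X.half u) x) = x := fun x => by rw [← app_mul, X.half_sq hu, app_one]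
    refine Submodule.subset_span ⟨h * y * h⁻¹, M.mul_mem (M.mul_mem hM' hyM) (M.inv_mem hM'),
      InQ.conj X (φ := app (X.half u)) (fun x => ⟨_, hinv x⟩) hmap hy, LinearMap.ext fun x => ?_⟩
    have hw'' : app h (X.τ (app (X.half u) x) w') = X.τ x w' := by rw [hh, X.app_emb, app_one, hinv]
    show app h (X.mov y w' (app (X.half u) x)) = _
    rw [mov_apply, mov_apply, map_sub, hw'', app_mul, app_mul]
    conv_rhs => rw [← hw'', app_inv_app, hw'']
  | zero => simp
  | add Z Z' _ _ h h' => rw [LinearMap.add_comp, LinearMap.comp_add]; exact Submodule.add_mem _ h h'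
  | smul t Z _ h => rw [LinearMap.smul_comp, LinearMap.comp_smul]; exact Submodule.smul_mem _ t h

theorem movSpan_adj (hO : X.Over M) {w w' : Fin 4 → F} (P : Hyp q₂ w w') {b : Fin 4 → F} (hb : b ∈ mid q₂ w w')
    {Y : (Fin 3 → F) →ₗ[F] (ι → F)} (hY : Y ∈ X.movSpan M w w') (x x'' : Fin 3 → F) :
    polar q₁ (X.C b (Y x)) x'' = polar q₁ x (X.C b (Y x'')) := by
  obtain ⟨hwb, hw'b⟩ := mem_mid.1 hb
  set r := X.emb (1, eich q₂ w b)
  have hr : r ∈ M := hO.le (X.right_mem (eich_mem_commutator X.nd₂ X.two P.q₁ hwb))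
  have hrQ : X.InQ w r := by
    refine ⟨fun x => ?_, fun z hz => ⟨-(X.C b z), ?_⟩⟩
    · rw [X.app_R P.q₁ hwb, X.C_τ, X.C_τ, P.self₁, hwb]
      simp
    · rw [X.app_R P.q₁ hwb, hz]
      simp
  have hY' : ∀ x, X.mov r w' x = X.τ x b + X.τ (-(q₂ b • x)) w := by
    intro x
    rw [mov_apply, X.app_R P.q₁ hwb, X.C_τ, X.C_τ, P.pair', hw'b]
    simp
    abel
  have h := X.movSpan_symm hO P hY (Submodule.subset_span ⟨r, hr, hrQ, rfl⟩) x x''
  have e0 : ∀ x a, polar q (X.τ a w) (Y x) = 0 := fun x a => by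
    rw [polar_comm, ← X.polar_C, X.movSpan_C hY, polar_zero_left]
  rw [hY', hY', polar_add_left, polar_add_right, e0, polar_comm (f := ⇑q) (Y x) (X.τ (-(q₂ b • x'')) w), e0,
    add_zero, add_zero, polar_comm (f := ⇑q) (X.τ x b), ← X.polar_C, ← X.polar_C] at h
  rw [polar_comm (f := ⇑q₁) x]
  exact h.symm

/-- Orthogonal vectors of the left factor are not joined by a movement. -/
theorem movSpan_cross (hO : X.Over M) {w w' : Fin 4 → F} (P : Hyp q₂ w w')
    {Y : (Fin 3 → F) →ₗ[F] (ι → F)} (hY : Y ∈ X.movSpan M w w') {a c : Fin 3 → F} (ha : q₁ a ≠ 0)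
    (hc : q₁ c ≠ 0) (hac : polar q₁ a c = 0) {b : Fin 4 → F} (hb : b ∈ mid q₂ w w') :
    polar q₁ (X.C b (Y a)) c = 0 := by
  have h2 := X.two
  obtain ⟨d, hd, hqd⟩ := exists_aniso (nondeg_inf h2 (nondeg_inf h2 (nondeg_top X.nd₁) trivial ha)
      (show c ∈ _ from ⟨trivial, mem_orth_one.2 hac⟩) hc) fun h => by
    have h1 := finrank_inf_ge X.nd₁ (⊤ : Submodule F (Fin 3 → F)) a
    have h3 := finrank_inf_ge X.nd₁ ((⊤ : Submodule F (Fin 3 → F)) ⊓ OrthTools.orth q₁ (Submodule.span F {a})) c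
    rw [h, finrank_bot] at h3
    rw [finrank_top, Module.finrank_fin_fun] at h1
    omega
  have had := mem_orth_one.1 hd.1.2
  have hcd := mem_orth_one.1 hd.2
  have hf : IsFrame q₁ ![a, c, d] := ⟨fun i => by fin_cases i <;> assumption, fun i k hik => by
    fin_cases i <;> fin_cases k <;> simp [hac, had, hcd, polar_comm (f := ⇑q₁) c a, polar_comm (f := ⇑q₁) d a,
      polar_comm (f := ⇑q₁) d c] at hik ⊢⟩
  -- the component joining `a` and `c`
  set Y₁ := Y - (app (X.emb (X.half a, 1))).comp (Y.comp (app (X.half a)))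
  set Y₂ := Y₁ - (app (X.emb (X.half c, 1))).comp (Y₁.comp (app (X.half c)))
  have hY₁ : Y₁ ∈ X.movSpan M w w' := Submodule.sub_mem _ hY (X.movSpan_half hO ha hY)
  have hY₂ : Y₂ ∈ X.movSpan M w w' := Submodule.sub_mem _ hY₁ (X.movSpan_half hO hc hY₁)
  have hCh : ∀ (u : Fin 3 → F) (b : Fin 4 → F) z, X.C b (app (X.emb (X.half u, 1)) z) =
      app (X.half u) (X.C b z) := fun u b z => by rw [X.C_emb]; simp
  have haa : polar q₁ a a = 2 * q₁ a := polar_self' _
  have hcc : polar q₁ c c = 2 * q₁ c := polar_self' _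
  set k : (Fin 4 → F) → F := fun b => polar q₁ (X.C b (Y a)) c / (q₁ a * q₁ c) with hk
  have hS : ∀ b ∈ mid q₂ w w', ∀ x,
      X.C b (Y₂ x) = k b • (polar q₁ x a • c + polar q₁ x c • a) := by
    intro b hb x
    set S : (Fin 3 → F) →ₗ[F] (Fin 3 → F) := (X.C b).comp Y with hSd
    have hSa : ∀ x y, polar q₁ (S x) y = polar q₁ (S y) x := fun x y => by
      rw [polar_comm (f := ⇑q₁) (S y) x]; exact X.movSpan_adj hO P hb hY x y
    have e : X.C b (Y₂ x) = (S x - app (X.half a) (S (app (X.half a) x))) -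
        app (X.half c) (S (app (X.half c) x) - app (X.half a) (S (app (X.half a) (app (X.half c) x)))) := by
      simp only [Y₂, Y₁, LinearMap.sub_apply, LinearMap.comp_apply, map_sub, hCh, hSd]
    rw [e]
    refine sub_eq_zero.1 ?_
    rw [hf.sum_eq h2 (_ - _), Fin.sum_univ_three]
    have hrw : k b = polar q₁ (S a) c / (q₁ a * q₁ c) := rfl
    simp only [Matrix.cons_val_zero, Matrix.cons_val_one, Matrix.cons_val_two, Matrix.head_cons, Matrix.tail_cons,
      app_half, map_sub, map_smul, polar_sub_left, polar_add_left, polar_smul_left, smul_eq_mul, hSa _ x,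
      polar_self', hac, had, hcd, polar_comm (f := ⇑q₁) c a, polar_comm (f := ⇑q₁) d a,
      polar_comm (f := ⇑q₁) d c, hSa c a, hSa d a, hSa d c, hrw]
    match_scalars <;> field_simp <;> ring
  -- a further conjugate
  obtain ⟨t, ht0, ht⟩ := exists_scale X.five (-(q₁ a / q₁ d))
  set u := a + t • d with hu
  have hqu : q₁ u ≠ 0 := by
    rw [hu, QuadraticMap.map_add ⇑q₁, QuadraticMap.map_smul, polar_smul_right, had, smul_zero, add_zero, smul_eq_mul]
    intro h
    exact ht (by field_simp; linear_combination h)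
  have hY₃ := X.movSpan_half hO hqu hY₂
  have hsym := X.movSpan_symm hO P hY₂ hY₃ a (app (X.half u) a)
  obtain ⟨e₁, e₂, he₁, he₂, hfe⟩ := X.exists_mid_frame P
  rw [X.polar_mid P hfe he₁ he₂ (X.movSpan_C hY₃ _) (X.movSpan_C hY₂ _),
    X.polar_mid P hfe he₁ he₂ (X.movSpan_C hY₂ _) (X.movSpan_C hY₃ _)] at hsym
  simp only [LinearMap.comp_apply, hCh, hS _ he₁, hS _ he₂] at hsym
  rw [show app (X.half u) (app (X.half u) a) = a by rw [← app_mul, X.half_sq hqu, app_one]] at hsym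
  set β := polar q₁ (app (X.half u) a) a with hβ
  have huc : polar q₁ u c = 0 := by
    rw [hu, polar_add_left, polar_smul_left, hac, polar_comm (f := ⇑q₁) d c, hcd, smul_zero, add_zero]
  have hc' : app (X.half u) c = -c := by
    rw [app_half, polar_comm (f := ⇑q₁) c u, huc, mul_zero, zero_smul, zero_sub]
  have ha'c : polar q₁ (app (X.half u) a) c = 0 := by
    have h := polar_app (X.half u) a c
    rw [hc', polar_neg_right, hac, neg_eq_zero] at h
    exact h
  simp only [map_smul, map_add, hc', haa, hac, ha'c, ← hβ, polar_add_left, polar_add_right, polar_smul_left,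
    polar_smul_right, polar_neg_left, polar_neg_right, hcc, smul_eq_mul, zero_smul, smul_zero, add_zero,
    mul_zero] at hsym
  set α := 2 * q₁ a with hα
  have hβ' : β = α ^ 2 / q₁ u - α := by
    rw [hβ, app_half, polar_sub_left, polar_smul_left, haa, hu, polar_add_right, polar_smul_right,
      haa, had, polar_add_left, polar_smul_left, polar_comm (f := ⇑q₁) d a, had, haa, smul_zero, add_zero,
      smul_eq_mul]
    field_simp
  have hαβ : β ^ 2 - α ^ 2 ≠ 0 := by
    rw [show β ^ 2 - α ^ 2 = (β - α) * (β + α) by ring, hβ']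
    refine mul_ne_zero ?_ ?_
    · intro h
      have hα0 : α ≠ 0 := mul_ne_zero h2 ha
      have hz : α * (α - 2 * q₁ u) = 0 := by
        field_simp at h
        linear_combination h
      have hu2 : q₁ u = q₁ a + t * t * q₁ d := by
        rw [hu, QuadraticMap.map_add ⇑q₁, QuadraticMap.map_smul, polar_smul_right, had, smul_zero, add_zero,
          smul_eq_mul]
      have h0 := (mul_eq_zero.1 hz).resolve_left hα0
      rw [hu2, hα] at h0
      exact mul_ne_zero h2 (mul_ne_zero (mul_ne_zero ht0 ht0) hqd) (by linear_combination -h0)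
    · rw [sub_add_cancel]
      exact div_ne_zero (pow_ne_zero _ (mul_ne_zero h2 ha)) hqu
  have hq1 : q₂ e₁ ≠ 0 := hfe.ne 2
  have hq2 : q₂ e₂ ≠ 0 := hfe.ne 3
  have hsum : (2 * q₂ e₁)⁻¹ * (k e₁ * k e₁) + (2 * q₂ e₂)⁻¹ * (k e₂ * k e₂) = 0 := by
    refine (mul_eq_zero.1 (?_ : _ * ((β ^ 2 - α ^ 2) * (2 * q₁ c)) = 0)).resolve_right
      (mul_ne_zero hαβ (mul_ne_zero h2 hc))
    linear_combination -hsym
  have h12 : polar q₂ e₁ e₂ = 0 := hfe.ortho 2 3 (by decide)
  set p := (k e₁ / (2 * q₂ e₁)) • e₁ + (k e₂ / (2 * q₂ e₂)) • e₂ with hp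
  have hp0 : p = 0 := by
    refine (X.mid_spec P).2.2 _ (Submodule.add_mem _ (Submodule.smul_mem _ _ he₁) (Submodule.smul_mem _ _ he₂)) ?_
    rw [hp, QuadraticMap.map_add ⇑q₂, QuadraticMap.map_smul, QuadraticMap.map_smul, polar_smul_left,
      polar_smul_right, h12, smul_zero, smul_zero, add_zero, smul_eq_mul, smul_eq_mul]
    field_simp at hsum ⊢
    linear_combination hsum
  have hk0 : k e₁ = 0 ∧ k e₂ = 0 := by
    have g1 := congrArg (fun z => polar q₂ z e₁) hp0
    have g2 := congrArg (fun z => polar q₂ z e₂) hp0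
    simp only [hp, polar_add_left, polar_smul_left, polar_self', h12, polar_comm (f := ⇑q₂) e₂ e₁,
      polar_zero_left, smul_eq_mul, mul_zero, add_zero, zero_add] at g1 g2
    constructor
    · simpa [hq1, h2] using g1
    · simpa [hq2, h2] using g2
  have hkb : ∀ e, k e = 0 → polar q₁ (X.C e (Y a)) c = 0 := fun e h =>
    (div_eq_zero_iff.1 h).resolve_right (mul_ne_zero ha hc)
  obtain ⟨hwb, hw'b⟩ := mem_mid.1 hb
  rw [hfe.sum_eq h2 b, Fin.sum_univ_four]
  simp only [Matrix.cons_val_zero, Matrix.cons_val_one, Matrix.cons_val_two, Matrix.cons_val_three,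
    Matrix.head_cons, Matrix.tail_cons, X.C_add, X.C_smul, polar_add_left, polar_smul_left,
    hkb _ hk0.1, hkb _ hk0.2, polar_add_right, polar_sub_right, polar_comm (f := ⇑q₂) b w,
    polar_comm (f := ⇑q₂) b w', hwb, hw'b, smul_eq_mul]
  ring

theorem InQ.scalar (hO : X.Over M) {w w' : Fin 4 → F} (P : Hyp q₂ w w') {y : O q} (hyM : y ∈ M)
    (hy : X.InQ w y) {b : Fin 4 → F} (hb : b ∈ mid q₂ w w') :
    ∃ l : F, ∀ x, X.C b (X.mov y w' x) = l • x := by
  have h2 := X.two
  have hY : X.mov y w' ∈ X.movSpan M w w' := Submodule.subset_span ⟨y, hyM, hy, rfl⟩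
  obtain ⟨S, hS⟩ : ∃ S : (Fin 3 → F) →ₗ[F] (Fin 3 → F), ∀ x, X.C b (X.mov y w' x) = S x :=
    ⟨(X.C b).comp (X.mov y w'), fun _ => rfl⟩
  have hcross : ∀ a c, q₁ a ≠ 0 → q₁ c ≠ 0 → polar q₁ a c = 0 → polar q₁ (S a) c = 0 := fun a c ha hc hac => by
    rw [← hS]; exact X.movSpan_cross hO P hY ha hc hac hb
  obtain ⟨f, hf⟩ := IsFrame.exists_mem X.nd₁ h2
  set l : Fin 3 → F := fun i => (2 * q₁ (f i))⁻¹ * polar q₁ (S (f i)) (f i)
  have hl : ∀ i, S (f i) = l i • f i := fun i => by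
    conv_lhs => rw [hf.sum_eq h2 (S (f i))]
    rw [Finset.sum_eq_single i (fun j _ hj => by
      rw [hcross _ _ (hf.ne i) (hf.ne j) (hf.ortho i j (Ne.symm hj)), mul_zero, zero_smul]) (by simp)]
  clear_value l
  have heq : ∀ i j, l i = l j := by
    intro i j
    rcases eq_or_ne i j with rfl | hij
    · rfl
    obtain ⟨t, ht0, ht⟩ := exists_scale X.five (-(q₁ (f i) / q₁ (f j)))
    have hqi := hf.ne i
    have hqj := hf.ne j
    set s := -(q₁ (f i) / (t * q₁ (f j))) with hs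
    have hval : ∀ r : F, q₁ (f i + r • f j) = q₁ (f i) + r * r * q₁ (f j) := fun r => by
      rw [QuadraticMap.map_add ⇑q₁, QuadraticMap.map_smul, polar_smul_right, hf.ortho i j hij, smul_zero,
        add_zero, smul_eq_mul]
    have hne : q₁ (f i) + t * t * q₁ (f j) ≠ 0 := fun h => ht (by field_simp; linear_combination h)
    have h := hcross (f i + t • f j) (f i + s • f j) (by rw [hval]; exact hne) (by
        rw [hval, hs]
        intro h
        field_simp at h
        exact hne ((mul_eq_zero.1 (show q₁ (f i) * (q₁ (f i) + t * t * q₁ (f j)) = 0 by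
          linear_combination h)).resolve_left hqi)) (by
        simp only [polar_add_left, polar_add_right, polar_smul_left, polar_smul_right, polar_self',
          hf.ortho i j hij, hf.ortho j i (Ne.symm hij), hs, smul_eq_mul]
        field_simp
        ring)
    simp only [map_add, map_smul, hl, polar_add_left, polar_add_right, polar_smul_left, polar_smul_right,
      polar_self', hf.ortho i j hij, hf.ortho j i (Ne.symm hij), hs, smul_eq_mul] at h
    field_simp at h
    refine sub_eq_zero.1 ((mul_eq_zero.1 (show (2 * t * q₁ (f i) * q₁ (f j)) * (l i - l j) = 0 by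
      linear_combination h)).resolve_left (mul_ne_zero (mul_ne_zero (mul_ne_zero h2 ht0) hqi) hqj))
  refine ⟨l 0, fun x => ?_⟩
  rw [hS]
  conv_lhs => rw [hf.sum_eq h2 x, map_sum]
  conv_rhs => rw [hf.sum_eq h2 x, Finset.smul_sum]
  exact Finset.sum_congr rfl fun i _ => by rw [map_smul, hl, heq i 0, smul_comm]

theorem InQ.exists_eich (hO : X.Over M) {w w' : Fin 4 → F} (P : Hyp q₂ w w') {y : O q} (hyM : y ∈ M)
    (hy : X.InQ w y) : ∃ b ∈ mid q₂ w w', y = X.emb (1, eich q₂ w b) := by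
  obtain ⟨a₀, ha₀⟩ := exists_anisotropic X.nd₁ (by simp)
  have ha2 : polar q₁ a₀ a₀ ≠ 0 := by rw [polar_self']; exact mul_ne_zero X.two ha₀
  set Y := X.mov y w'
  let μ : (Fin 4 → F) →ₗ[F] F := (polar q₁ a₀ a₀)⁻¹ • (q.polarBilin (Y a₀)).comp (X.τ a₀)
  have hμ : ∀ b, μ b = (polar q₁ a₀ a₀)⁻¹ * polar q₁ (X.C b (Y a₀)) a₀ := fun b => by
    rw [X.polar_C]; rfl
  have hsc : ∀ b ∈ mid q₂ w w', ∀ x, X.C b (Y x) = μ b • x := by
    intro b hb x
    obtain ⟨l, hl⟩ := InQ.scalar X hO P hyM hy hb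
    rw [hl, hμ, hl, polar_smul_left, smul_eq_mul, mul_left_comm, inv_mul_cancel₀ ha2, mul_one]
  set b₀ := toVec X.nd₂ μ - polar q₂ w' (toVec X.nd₂ μ) • w - polar q₂ w (toVec X.nd₂ μ) • w'
  have hb₀ : b₀ ∈ mid q₂ w w' := P.proj_mem _
  obtain ⟨hwb, hw'b⟩ := mem_mid.1 hb₀
  refine ⟨b₀, hb₀, ?_⟩
  have hR : X.emb (1, eich q₂ w (-b₀)) ∈ M :=
    hO.le (X.right_mem (eich_mem_commutator X.nd₂ X.two P.q₁ (by rw [polar_neg_right, hwb, neg_zero])))
  have hnb : polar q₂ w (-b₀) = 0 := by rw [polar_neg_right, hwb, neg_zero]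
  suffices X.emb (1, eich q₂ w (-b₀)) * y = 1 by
    rw [eq_inv_of_mul_eq_one_right this, ← map_inv]
    congr 1
    refine Prod.ext inv_one (inv_eq_of_mul_eq_one_right ?_)
    show eich q₂ w (-b₀) * eich q₂ w b₀ = 1
    rw [eich_add P.q₁ hnb hwb, neg_add_cancel, ← zero_smul F w, eich_smul_self P.q₁]
  refine Over.inZ_eq_one X hO P (M.mul_mem hR hyM) ⟨fun x => ?_, fun z => ?_⟩
  · rw [app_mul, hy.1, X.app_R P.q₁ hnb, X.C_τ, X.C_τ, P.self₁, hnb]
    simp
  · obtain ⟨r, hr⟩ := hy.2 (z - X.τ (X.C w z) w') (by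
      rw [map_sub, X.C_τ, P.pair', one_smul, sub_self])
    have hYs : X.mov y w' (X.C w z) + X.τ (X.C w z) (-b₀) =
        X.τ (X.C w' (X.mov y w' (X.C w z) + X.τ (X.C w z) (-b₀))) w := by
      refine X.eq_slice P ?_ fun b hb => ?_
      · rw [map_add, X.C_mov hy.1, X.C_τ, polar_comm, hnb, zero_smul, add_zero]
      · rw [map_add, hsc b hb, X.C_τ, polar_neg_left, ← add_smul]
        obtain ⟨h1, h3⟩ := mem_mid.1 hb
        rw [show polar q₂ b₀ b = μ b by
          rw [polar_sub_left, polar_sub_left, polar_smul_left, polar_smul_left, h1, h3, polar_toVec]; simp,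
          add_neg_cancel, zero_smul]
    have hyz : app y z - z = X.τ r w + X.mov y w' (X.C w z) := by
      rw [← hr, mov_apply, map_sub]; abel
    refine ⟨r + X.C w' (X.mov y w' (X.C w z) + X.τ (X.C w z) (-b₀))
      + (-(X.C (-b₀) (app y z)) - q₂ (-b₀) • X.C w (app y z)), ?_⟩
    rw [app_mul, X.app_R P.q₁ hnb, X.C_app_fix hy.1]
    rw [map_add X.τ, map_add X.τ, LinearMap.add_apply, LinearMap.add_apply, ← hYs, show app y z = z + (X.τ r w + X.mov y w' (X.C w z)) by rw [← hyz]; abel]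
    abel

theorem slice_id (hO : X.Over M) {w v : Fin 4 → F} {w' v' : Fin 4 → F} (P : Hyp q₂ w w') (P' : Hyp q₂ v v')
    {g : O q} (hgM : g ∈ M) (hg : ∀ x, app g (X.τ x w) = X.τ x v) : g ∈ X.T := by
  have hmap : ∀ z, X.C v (app g z) = X.C w z := fun z => ext_polar X.nd₁ fun a =>
    X.C_map (φ := LinearMap.id) (fun x => hg x) z a
  have hψ : ∀ b ∈ mid q₂ w w', ∃ ψ ∈ mid q₂ v v', ∀ a, ∃ r,
      app g (X.τ a b) = X.τ a ψ + X.τ r v := by
    intro b hb
    obtain ⟨hwb, hw'b⟩ := mem_mid.1 hb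
    have hR : X.emb (1, eich q₂ w b) ∈ M := hO.le (X.right_mem (eich_mem_commutator X.nd₂ X.two P.q₁ hwb))
    have hRQ : X.InQ w (X.emb (1, eich q₂ w b)) := by
      refine ⟨fun x => ?_, fun z hz => ⟨-(X.C b z), ?_⟩⟩
      · rw [X.app_R P.q₁ hwb, X.C_τ, X.C_τ, P.self₁, hwb]
        simp
      · rw [X.app_R P.q₁ hwb, hz]
        simp
    obtain ⟨ψ, hψ, he⟩ := InQ.exists_eich X hO P' (M.mul_mem (M.mul_mem hgM hR) (M.inv_mem hgM))
      (InQ.conj X (φ := LinearMap.id) Function.surjective_id (fun x => hg x) hRQ)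
    obtain ⟨hvψ, hv'ψ⟩ := mem_mid.1 hψ
    refine ⟨ψ, hψ, fun a => ?_⟩
    have h := congrArg (fun k => app k (app g (X.τ a w'))) he
    simp only [app_mul, app_inv_app] at h
    rw [X.app_R P'.q₁ hvψ, hmap, X.C_τ, P.pair', one_smul, X.app_R P.q₁ hwb, X.C_τ, P.pair', one_smul,
      map_add, map_add, hg, add_assoc, add_assoc, add_right_inj] at h
    exact ⟨-(X.C ψ (app g (X.τ a w'))) - q₂ ψ • a - (-(X.C b (X.τ a w')) - q₂ b • a), by
      rw [map_sub X.τ, LinearMap.sub_apply, ← add_sub_assoc, eq_sub_iff_add_eq]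
      exact h⟩
  have hc : (1 : F) ≠ 0 := one_ne_zero
  have hcomm : ∀ x, q₁ x = 1 → ∀ z, app g (app (X.emb (negO q₁ * refl q₁ x, 1)) z) =
      app (X.emb (negO q₁ * refl q₁ x, 1)) (app g z) := by
    intro x hx
    have hxne : q₁ x ≠ 0 := by rw [hx]; exact one_ne_zero
    set a := negO q₁ * refl q₁ x with ha
    have ha2 : a * a = 1 := X.half_sq hxne
    set A := X.emb (a, 1) with hA
    have hAM : A ∈ M := hO.le (X.left_mem (X.det_half hxne))
    have hAfix : ∀ r u, app A (X.τ r u) = X.τ (app a r) u := fun r u => by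
      rw [hA, X.app_emb, app_one]
    have hA2 : A * A = 1 := by rw [hA, ← map_mul, Prod.mk_mul_mk, ha2, mul_one, Prod.mk_one_one, map_one]
    -- `g` commutes with `A` modulo the slice
    let L : (ι → F) →ₗ[F] ((ι → F) ⧸ LinearMap.range ((LinearMap.flip X.τ) v)) :=
      (Submodule.mkQ _).comp (((app g).comp (app A) - (app A).comp (app g)).comp
        (LinearMap.id - ((LinearMap.flip X.τ) w').comp (X.C w)))
    have hL : L = 0 := X.ext_τ fun r u => by
      show Submodule.Quotient.mk _ = 0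
      rw [Submodule.Quotient.mk_eq_zero]
      have e : (LinearMap.id - ((LinearMap.flip X.τ) w').comp (X.C w) : (ι → F) →ₗ[F] (ι → F)) (X.τ r u) =
          X.τ r (polar q₂ w' u • w + (u - polar q₂ w' u • w - polar q₂ w u • w')) := by
        simp only [LinearMap.sub_apply, LinearMap.id_apply, LinearMap.comp_apply, LinearMap.flip_apply, X.C_τ,
          map_smul, LinearMap.smul_apply, map_add, map_sub, polar_comm (f := ⇑q₂) u w]
        abel
      rw [LinearMap.comp_apply, e]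
      obtain ⟨ψ, -, hψ'⟩ := hψ _ (P.proj_mem u)
      obtain ⟨r₁, h1⟩ := hψ' r
      obtain ⟨r₂, h3⟩ := hψ' (app a r)
      refine ⟨r₂ - app a r₁, ?_⟩
      generalize u - polar q₂ w' u • w - polar q₂ w u • w' = e₀ at h1 h3 ⊢
      simp only [LinearMap.sub_apply, LinearMap.comp_apply, LinearMap.flip_apply, map_add, map_smul,
        LinearMap.add_apply, LinearMap.smul_apply, hAfix, hg, h1, h3, map_sub]
      module
    set n := g * A * g⁻¹ * A⁻¹ with hn
    have hAinv : A⁻¹ = A := inv_eq_of_mul_eq_one_right hA2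
    have hnQ : X.InQ v n := by
      refine ⟨fun r => ?_, fun z hz => ?_⟩
      · rw [hn, hAinv, app_mul, app_mul, app_mul, hAfix,
          show app g⁻¹ (X.τ (app a r) v) = X.τ (app a r) w by rw [← hg, app_inv_app], hAfix, hg, ← app_mul a a, ha2,
          app_one]
      · obtain ⟨z', rfl⟩ : ∃ t, app A (app g t) = z := ⟨app g⁻¹ (app A⁻¹ z), by
          rw [app_app_inv, app_app_inv]⟩
        have hz' : X.C w z' = 0 := by
          rw [hA, X.C_emb, Prod.fst, Prod.snd, inv_one, app_one, hmap] at hz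
          exact app_injective a (by rw [hz, map_zero])
        have := LinearMap.congr_fun hL z'
        change Submodule.Quotient.mk _ = 0 at this
        rw [Submodule.Quotient.mk_eq_zero] at this
        obtain ⟨r, hr⟩ := this
        refine ⟨r, ?_⟩
        simp only [LinearMap.sub_apply, LinearMap.id_apply, LinearMap.comp_apply, LinearMap.flip_apply, hz',
          map_zero, LinearMap.zero_apply, sub_zero] at hr
        rw [hr, hn, app_mul, app_inv_app, app_mul, app_inv_app, app_mul]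
    obtain ⟨b₀, hb₀, he⟩ := InQ.exists_eich X hO P'
      (M.mul_mem (M.mul_mem (M.mul_mem hgM hAM) (M.inv_mem hgM)) (M.inv_mem hAM)) hnQ
    obtain ⟨hvb, hv'b⟩ := mem_mid.1 hb₀
    have hgA : g * A * g⁻¹ = X.emb (a, eich q₂ v b₀) := by
      rw [show g * A * g⁻¹ = g * A * g⁻¹ * A⁻¹ * A by group, he, hA, ← map_mul, Prod.mk_mul_mk, one_mul, mul_one]
    have hsq : X.emb (1, eich q₂ v (b₀ + b₀)) = 1 := by
      rw [← eich_add P'.q₁ hvb hvb, show ((1 : O q₁), eich q₂ v b₀ * eich q₂ v b₀) =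
        (a, eich q₂ v b₀) * (a, eich q₂ v b₀) by rw [Prod.mk_mul_mk, ha2], map_mul, ← hgA]
      rw [show g * A * g⁻¹ * (g * A * g⁻¹) = g * (A * A) * g⁻¹ by group, hA2]
      group
    have hb0 : b₀ = 0 := by
      have h := congrArg (fun k => app k v') (X.emb_eq_one (map_one _) hsq).2
      simp only [app_one] at h
      have hz : polar q₂ v' (b₀ + b₀) = 0 := by rw [polar_add_right, hv'b, add_zero]
      rw [app_eich P'.q₁ (by rw [polar_add_right, hvb, add_zero]), P'.pair', hz, one_smul, add_assoc,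
        add_eq_left, neg_zero, zero_sub, mul_one] at h
      have h' := congrArg (fun e => polar q₂ e v') h
      simp only [polar_add_left, polar_smul_left, polar_comm (f := ⇑q₂) b₀ v', hv'b, P'.pair, polar_zero_left,
        smul_eq_mul, zero_add, mul_one] at h'
      rw [h', zero_smul, add_zero, ← two_smul F, smul_eq_zero] at h
      exact h.resolve_left X.two
    have hnA : g * A = A * g := by
      have h1 : g * A * g⁻¹ = A := by
        rw [hgA, hb0, ← zero_smul F v, eich_smul_self P'.q₁, hA]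
      exact mul_inv_eq_iff_eq_mul.1 h1
    intro z
    rw [← app_mul, hnA, app_mul]
  -- `g` is `1 ⊗ β`
  obtain ⟨a₀, ha₀⟩ := exists_anisotropic X.nd₁ (by simp)
  have ha2 : polar q₁ a₀ a₀ ≠ 0 := by rw [polar_self']; exact mul_ne_zero X.two ha₀
  let β : (Fin 4 → F) →ₗ[F] (Fin 4 → F) :=
    (polar q₁ a₀ a₀)⁻¹ • (X.D a₀).comp ((app g).comp (X.τ a₀))
  have hgβ : ∀ a u, app g (X.τ a u) = X.τ a (β u) := by
    intro a u
    refine sub_eq_zero.1 (X.eq_zero fun φ => ?_)
    rw [map_sub, X.C_τ, sub_eq_zero]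
    let K : (Fin 3 → F) →ₗ[F] (Fin 3 → F) := (X.C φ).comp ((app g).comp ((LinearMap.flip X.τ) u))
    obtain ⟨l, hl⟩ := scalar_of_comm_value X.nd₁ X.two (by simp)
      (Or.inl X.five) hc K fun x hx z => by
        have h := congrArg (X.C φ) (hcomm x hx (X.τ z u))
        rw [X.app_emb, app_one, X.C_emb, Prod.fst, Prod.snd, inv_one, app_one, app_mul, app_mul, app_negO,
          app_negO, map_neg, LinearMap.neg_apply, map_neg, map_neg] at h
        exact neg_injective h
    have hlφ : polar q₂ (β u) φ = l := by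
      show polar q₂ ((polar q₁ a₀ a₀)⁻¹ • X.D a₀ (app g (X.τ a₀ u))) φ = l
      rw [polar_smul_left, X.polar_D, ← X.polar_C, show X.C φ (app g (X.τ a₀ u)) = l • a₀ from hl a₀,
        polar_smul_left, smul_eq_mul, smul_eq_mul, mul_left_comm, inv_mul_cancel₀ ha2, mul_one]
    rw [hlφ]
    exact hl a
  have ha00 : a₀ ≠ 0 := fun h => ha₀ (by rw [h, QuadraticMap.map_zero])
  have hβq : ∀ u, q₂ (β u) = q₂ u := fun u => by
    have h := Q_app g (X.τ a₀ u)
    rw [hgβ, X.q_τ, X.q_τ] at h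
    exact mul_left_cancel₀ (mul_ne_zero X.two ha₀) h
  have hinj : Function.Injective β := fun u u' h => by
    have h' : app g (X.τ a₀ (u - u')) = 0 := by rw [hgβ, map_sub, h, sub_self, map_zero]
    exact sub_eq_zero.1 (X.τ_inj_right ha00 (app_injective g (by rw [h', map_zero])))
  refine ⟨(1, CfsgLib.OrthOmega.ofEquiv (LinearEquiv.ofInjectiveEndo β hinj) fun u => hβq u),
    X.ext_O fun a u => ?_⟩
  rw [X.app_emb, app_one, hgβ]
  exact congrArg (X.τ a) (CfsgLib.OrthOmega.app_ofEquiv (Q := q₂) (LinearEquiv.ofInjectiveEndo β hinj)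
    (fun u => hβq u) u)

/-- An element mapping a singular slice into a slice preserves the decomposition. -/
theorem slice (hO : X.Over M) {w : Fin 4 → F} (hw : q₂ w = 0) (hw0 : w ≠ 0) {v : Fin 4 → F} {g : O q}
    (hgM : g ∈ M) (hg : ∀ x, ∃ x', app g (X.τ x w) = X.τ x' v) : g ∈ X.T := by
  obtain ⟨w', P⟩ := exists_hyp X.nd₂ hw hw0
  obtain ⟨a₀, ha₀⟩ := exists_anisotropic X.nd₁ (by simp)
  have ha00 : a₀ ≠ 0 := fun h => ha₀ (by rw [h, QuadraticMap.map_zero])
  have hv0 : v ≠ 0 := fun h => by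
    obtain ⟨x', hx⟩ := hg a₀
    rw [h, map_zero] at hx
    exact ha00 (X.τ_inj_left P.ne₁ (app_injective g (by rw [hx, map_zero])))
  obtain ⟨ψ, hψ⟩ := exists_polar_eq_one X.nd₂ hv0
  let φ : (Fin 3 → F) →ₗ[F] (Fin 3 → F) := (X.C ψ).comp ((app g).comp ((LinearMap.flip X.τ) w))
  have hgφ : ∀ x, app g (X.τ x w) = X.τ (φ x) v := fun x => by
    obtain ⟨x', hx⟩ := hg x
    rw [hx]
    show X.τ x' v = X.τ (X.C ψ (app g (X.τ x w))) v
    rw [hx, X.C_τ, hψ, one_smul]
  have hφi : Function.Injective φ := fun x y h => by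
    have h' : app g (X.τ (x - y) w) = 0 := by rw [hgφ, map_sub, h, sub_self, map_zero, LinearMap.zero_apply]
    exact sub_eq_zero.1 (X.τ_inj_left P.ne₁ (app_injective g (by rw [h', map_zero])))
  have hφs : Function.Surjective φ := LinearMap.surjective_of_injective hφi
  have hqv : q₂ v = 0 := by
    obtain ⟨x, hx⟩ := hφs a₀
    have h := Q_app g (X.τ x w)
    rw [hgφ, hx, X.q_τ, X.q_τ, hw, mul_zero, mul_eq_zero] at h
    exact h.resolve_left (mul_ne_zero X.two ha₀)
  obtain ⟨v', P'⟩ := exists_hyp X.nd₂ hqv hv0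
  -- `φ` is a similitude
  obtain ⟨b, hb, hqb⟩ := exists_aniso (P.nondeg_mid X.nd₂) (X.mid_spec P).2.1
  obtain ⟨hwb, hw'b⟩ := mem_mid.1 hb
  have hR : X.emb (1, eich q₂ w b) ∈ M := hO.le (X.right_mem (eich_mem_commutator X.nd₂ X.two P.q₁ hwb))
  have hRQ : X.InQ w (X.emb (1, eich q₂ w b)) := by
    refine ⟨fun x => ?_, fun z hz => ⟨-(X.C b z), ?_⟩⟩
    · rw [X.app_R P.q₁ hwb, X.C_τ, X.C_τ, P.self₁, hwb]
      simp
    · rw [X.app_R P.q₁ hwb, hz]
      simp
  obtain ⟨e, hem, he⟩ := InQ.exists_eich X hO P' (M.mul_mem (M.mul_mem hgM hR) (M.inv_mem hgM))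
    (InQ.conj X hφs hgφ hRQ)
  obtain ⟨hve, hv'e⟩ := mem_mid.1 hem
  have hev : ∀ z, app g (X.τ (X.C w z) b + X.τ (-(X.C b z) - q₂ b • X.C w z) w) =
      X.τ (X.C v (app g z)) e + X.τ (-(X.C e (app g z)) - q₂ e • X.C v (app g z)) v := by
    intro z
    have h := congrArg (fun k => app k (app g z)) he
    simp only [app_mul, app_inv_app] at h
    rw [X.app_R P'.q₁ hve, X.app_R P.q₁ hwb, add_assoc, add_assoc, map_add, add_right_inj] at h
    exact h
  let χ : (Fin 3 → F) →ₗ[F] (Fin 3 → F) := (X.C v).comp ((app g).comp ((LinearMap.flip X.τ) w'))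
  have hχ : ∀ a a', polar q₁ (χ a) (φ a') = polar q₁ a a' := fun a a' => by
    show polar q₁ (X.C v (app g (X.τ a w'))) (φ a') = _
    rw [X.C_map hgφ, X.C_τ, P.pair', one_smul]
  have hA : ∀ a, X.C e (app g (X.τ a b)) = (2 * q₂ b) • φ a := by
    intro a
    have h := hev (X.τ a b)
    have h0 : X.C v (app g (X.τ a b)) = 0 := eq_zero_of_polar X.nd₁ fun x => by
      obtain ⟨x, rfl⟩ := hφs x
      rw [X.C_map hgφ, X.C_τ, polar_comm (f := ⇑q₂) b w, hwb, zero_smul, polar_zero_left]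
    rw [X.C_τ, polar_comm (f := ⇑q₂) b w, hwb, zero_smul, smul_zero, sub_zero, X.C_τ, polar_self', map_zero,
      LinearMap.zero_apply, zero_add, hgφ, h0, smul_zero, sub_zero, map_zero, LinearMap.zero_apply, zero_add] at h
    have h' := congrArg (X.C v') h
    rw [X.C_τ, X.C_τ, P'.pair, one_smul, one_smul, map_neg, map_smul] at h'
    exact (neg_injective h').symm
  have hB : ∀ a, (2 * q₂ e) • χ a = (2 * q₂ b) • φ a := by
    intro a
    have h := congrArg (X.C e) (hev (X.τ a w'))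
    rw [X.C_τ, P.pair', one_smul, map_add, map_add, map_add, hgφ, hA] at h
    simp only [X.C_τ, hve, polar_self', zero_smul, add_zero] at h
    exact h.symm
  have hqe : q₂ e ≠ 0 := fun h0 => by
    have h := hB a₀
    rw [h0, mul_zero, zero_smul, eq_comm, smul_eq_zero] at h
    exact ha00 (hφi (by rw [h.resolve_left (mul_ne_zero X.two hqb), map_zero]))
  set μ := q₂ e / q₂ b
  have hsim : ∀ a a', polar q₁ (φ a) (φ a') = μ * polar q₁ a a' := by
    intro a a'
    have h := congrArg (fun r => polar q₁ r (φ a')) (hB a)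
    simp only [polar_smul_left, smul_eq_mul, hχ] at h
    apply mul_left_cancel₀ (mul_ne_zero X.two hqb)
    rw [← h]
    show _ = 2 * q₂ b * (q₂ e / q₂ b * _)
    field_simp
  obtain ⟨ν₀, a₁, hν₀, -, hφa₀⟩ := similitude X.nd₁ X.two (show Odd 3 from ⟨1, rfl⟩) (div_ne_zero hqe hqb) φ hsim
  obtain ⟨ν, a, hν, hda, hφa⟩ : ∃ (ν : F) (a : O q₁), ν ≠ 0 ∧ detHom q₁ a = 1 ∧ ∀ x, φ x = ν • app a x := by
    rcases det_eq_one_or X.nd₁ a₁ with h | h
    · exact ⟨ν₀, a₁, hν₀, h, hφa₀⟩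
    · exact ⟨-ν₀, negO q₁ * a₁, neg_ne_zero.2 hν₀, by
        rw [map_mul, h, detHom_negO q₁ (by simp; exact ⟨1, rfl⟩), neg_one_mul, neg_neg],
        fun x => by rw [app_mul, app_negO, neg_smul_neg]; exact hφa₀ x⟩
  have hh : X.emb (a⁻¹, 1) ∈ X.H := X.left_mem (by rw [map_inv, hda, inv_one])
  have hmem := X.slice_id hO P (v := ν • v) (v' := ν⁻¹ • v')
    ⟨by rw [QuadraticMap.map_smul, P'.q₁, smul_zero], by rw [QuadraticMap.map_smul, P'.q₂, smul_zero],
      by rw [polar_smul_left, polar_smul_right, P'.pair, smul_eq_mul, smul_eq_mul, mul_one, mul_inv_cancel₀ hν]⟩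
    (M.mul_mem (hO.le hh) hgM) fun x => by
      rw [app_mul, hgφ, X.app_emb, app_one, hφa, map_smul, app_inv_app, map_smul, LinearMap.smul_apply, map_smul]
  simpa using X.T.mul_mem (X.T.inv_mem (X.emb_mem_T (a⁻¹, (1 : O q₂)))) hmem

end Data

end CfsgLib.TensorMinus
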