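import Cfsg.Agent.Lib.TensorMinus.Main
import Cfsg.Agent.Lib.Maximal.TensorTools

/-!
The stabiliser of a tensor decomposition with factors of dimensions three and four, the second of minus type,
is maximal in `Ω` of dimension twelve.
-/

set_option autoImplicit false
set_option linter.unusedSectionVars false
set_option linter.unusedSimpArgs false

namespace CfsgLib.TensorMinus

open Matrix QuadraticMap CfsgLib.Orth CfsgLib.GeomClasses CfsgLib.Maximal.TensorTools
open scoped Kronecker

variable {F : Type*} [Field F] [Fintype F]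

/-- The bilinear form of a form. -/
noncomputable def bilin {m : ℕ} {f : (Fin m → F) → (Fin m → F) → F} (hf : Cfsg.Geo.IsBilinearForm f) :
    LinearMap.BilinForm F (Fin m → F) :=
  LinearMap.mk₂ F f hf.add_left (fun c x y => by rw [hf.smul_left, smul_eq_mul])
    (fun x y z => hf.add_right x y z) (fun c x y => by rw [hf.smul_right, smul_eq_mul])

theorem pi_pure (x : Fin 3 × Fin 4 → F) :
    x = ∑ i, x i • CfsgLib.Maximal.TensorTools.pure (Pi.single i.1 1) (Pi.single i.2 1) := by
  funext ⟨a, b⟩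
  rw [Finset.sum_apply, Finset.sum_eq_single (a, b) (fun ⟨i, j⟩ _ h => by
    simp only [CfsgLib.Maximal.TensorTools.pure, Pi.smul_apply, Pi.single_apply, smul_eq_mul]
    split_ifs <;> simp_all) (by simp)]
  simp [CfsgLib.Maximal.TensorTools.pure]

/-- The tensor stabiliser is maximal in `Ω⁻` of dimension twelve. -/
theorem maximal_tensor {Q : (Fin 12 → F) → F} (hQ : Cfsg.Geo.IsNondegenerateQuadraticForm Q)
    (hodd : Odd (Fintype.card F)) (h5 : 5 ≤ Fintype.card F) (e : Fin 12 ≃ Fin 3 × Fin 4)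
    (P : Matrix.GeneralLinearGroup (Fin 12) F) (f₁ : (Fin 3 → F) → (Fin 3 → F) → F)
    (f₂ : (Fin 4 → F) → (Fin 4 → F) → F) (hf₁ : Cfsg.Geo.IsSymmetricForm f₁)
    (hf₂ : Cfsg.Geo.IsSymmetricForm f₂) (hm : ¬ Cfsg.Geo.IsPlusTypeOn (fun v : Fin 4 → F => f₂ v v) ⊤)
    (hT : Cfsg.Geo.IsTensorFormStructure id (QuadraticMap.polar Q) f₁ f₂ e P) :
    Cfsg.Geo.IsMaximalIn (Cfsg.Geo.omegaGL Q)
      (Cfsg.Geo.tensorProductSubgroup 3 4 e P ⊓ Cfsg.Geo.omegaGL Q) := by
  classical
  have h2 : (2 : F) ≠ 0 := fun h => by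
    have hev := FiniteField.even_card_iff_char_two.1 (ringChar.eq_iff.2
      (CharTwo.of_one_ne_zero_of_two_eq_zero one_ne_zero h))
    exact Nat.not_even_iff_odd.2 hodd (Nat.even_iff.2 hev)
  obtain ⟨c, hc, hform⟩ := tensor_form_pure hf₁.bilinear hf₂.bilinear hT
  set q := quadOf hQ with hq
  set q₁ : QuadraticForm F (Fin 3 → F) := LinearMap.BilinMap.toQuadraticMap ((c / 2) • bilin hf₁.bilinear) with hq₁
  set q₂ : QuadraticForm F (Fin 4 → F) := LinearMap.BilinMap.toQuadraticMap ((2 : F)⁻¹ • bilin hf₂.bilinear) with hq₂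
  have hp₁ : ∀ x y, polar q₁ x y = c * f₁ x y := fun x y => by
    rw [hq₁, LinearMap.BilinMap.polar_toQuadraticMap]
    show c / 2 * f₁ x y + c / 2 * f₁ y x = _
    rw [hf₁.symm y x]
    field_simp
    ring
  have hp₂ : ∀ x y, polar q₂ x y = f₂ x y := fun x y => by
    rw [hq₂, LinearMap.BilinMap.polar_toQuadraticMap]
    show 2⁻¹ * f₂ x y + 2⁻¹ * f₂ y x = _
    rw [hf₂.symm y x]
    field_simp
    ring
  set cd := coord e P
  let τ : (Fin 3 → F) →ₗ[F] (Fin 4 → F) →ₗ[F] (Fin 12 → F) :=
    LinearMap.mk₂ F (fun a b => cd (CfsgLib.Maximal.TensorTools.pure a b))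
      (fun a a' b => by
        rw [← map_add]; congr 1; funext i; simp [CfsgLib.Maximal.TensorTools.pure, add_mul])
      (fun t a b => by
        rw [← map_smul]; congr 1; funext i; simp [CfsgLib.Maximal.TensorTools.pure, mul_assoc])
      (fun a b b' => by
        rw [← map_add]; congr 1; funext i; simp [CfsgLib.Maximal.TensorTools.pure, mul_add])
      (fun t a b => by
        rw [← map_smul]; congr 1; funext i; simp [CfsgLib.Maximal.TensorTools.pure, mul_left_comm])
  have hτ : ∀ a b, τ a b = cd (CfsgLib.Maximal.TensorTools.pure a b) := fun a b => rfl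
  let X : Data q q₁ q₂ :=
    { τ := τ
      two := h2
      five := h5
      nd := OrthTools.quadOf_nondegenerate hQ
      nd₁ := by
        refine ⟨fun x hx => ?_, fun x hx => ?_⟩ <;> by_contra h0
        · obtain ⟨y, hy⟩ := (hf₁.nondegenerate x h0).2
          exact mul_ne_zero hc hy (by rw [← hp₁]; exact hx y)
        · obtain ⟨y, hy⟩ := (hf₁.nondegenerate x h0).1
          exact mul_ne_zero hc hy (by rw [← hp₁]; exact hx y)
      nd₂ := by
        refine ⟨fun x hx => ?_, fun x hx => ?_⟩ <;> by_contra h0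
        · obtain ⟨y, hy⟩ := (hf₂.nondegenerate x h0).2
          exact hy (by rw [← hp₂]; exact hx y)
        · obtain ⟨y, hy⟩ := (hf₂.nondegenerate x h0).1
          exact hy (by rw [← hp₂]; exact hx y)
      card_ι := by simp
      polar_τ := fun a b a' b' => by
        rw [hp₁, hp₂, hτ, hτ, mul_assoc]
        exact hform a b a' b'
      span := by
        refine eq_top_iff.2 fun v _ => ?_
        obtain ⟨x, rfl⟩ := cd.surjective v
        rw [pi_pure x, map_sum]
        exact Submodule.sum_mem _ fun i _ => by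
          rw [map_smul]
          exact Submodule.smul_mem _ _ (Submodule.subset_span ⟨(_, _), hτ _ _⟩)
      minus := fun U hU => by
        by_contra hcon
        push Not at hcon
        refine hm ⟨U, le_top, fun v hv => ?_, by rw [hU, finrank_top, Module.finrank_fin_fun]⟩
        show f₂ v v = 0
        rw [← hp₂, polar_self', hcon v hv, mul_zero] }
  set i := (O q).subtype with hi
  have hinj : Function.Injective i := Subtype.val_injective
  have hΩ : Cfsg.Geo.omegaGL Q = (commutator (O q)).map i := rfl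
  let Φ : GL (Fin 3 × Fin 4) F ≃* GL (Fin 12) F := (Cfsg.Geo.glReindex e.symm).trans (MulAut.conj P)
  have hΦ : ∀ (k : GL (Fin 3 × Fin 4) F) x, (Φ k : Matrix (Fin 12) (Fin 12) F) *ᵥ cd x =
      cd ((k : Matrix (Fin 3 × Fin 4) (Fin 3 × Fin 4) F) *ᵥ x) := fun k x =>
    conj_reindex_mulVec e P k x
  have hTmem : ∀ g : O q, g ∈ commutator (O q) →
      ((g : GL (Fin 12) F) ∈ Cfsg.Geo.tensorProductSubgroup 3 4 e P ↔ g ∈ X.T) := by
    intro g _
    constructor
    · intro hg
      obtain ⟨A, B, hAB⟩ := exists_factors hg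
      set φ := Matrix.mulVecLin (A : Matrix (Fin 3) (Fin 3) F)
      set ψ := Matrix.mulVecLin (B : Matrix (Fin 4) (Fin 4) F)
      have hg' : ∀ v w, app g (τ v w) = τ (φ v) (ψ w) := fun v w => hAB v w
      obtain ⟨e₀, he₀⟩ := exists_anisotropic X.nd₂ (by simp)
      have hm2 : ∀ v v' w w', polar q₁ (φ v) (φ v') * polar q₂ (ψ w) (ψ w') =
          polar q₁ v v' * polar q₂ w w' := fun v v' w w' => by
        rw [← X.polar_τ, ← X.polar_τ]
        show polar q (τ (φ v) (ψ w)) (τ (φ v') (ψ w')) = polar q (τ v w) (τ v' w')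
        rw [← hg', ← hg', polar_app]
      have hne : polar q₂ e₀ e₀ ≠ 0 := by rw [polar_self']; exact mul_ne_zero h2 he₀
      have hne' : polar q₂ (ψ e₀) (ψ e₀) ≠ 0 := fun h0 => by
        obtain ⟨v, hv⟩ := exists_anisotropic X.nd₁ (by simp)
        have := hm2 v v e₀ e₀
        rw [h0, mul_zero, polar_self', eq_comm] at this
        exact mul_ne_zero (mul_ne_zero h2 hv) hne this
      obtain ⟨ν, a, hν, -, hφ⟩ := CfsgLib.TensorMax63.similitude X.nd₁ h2 (show Odd 3 from ⟨1, rfl⟩)
        (μ := polar q₂ e₀ e₀ / polar q₂ (ψ e₀) (ψ e₀)) (div_ne_zero hne hne') φ fun v v' => by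
          rw [eq_comm, div_mul_eq_mul_div, div_eq_iff hne', hm2, mul_comm]
      have hg'' : ∀ v w, app g (τ v w) = τ (app a v) (ν • ψ w) := fun v w => by
        rw [hg', hφ, map_smul, LinearMap.smul_apply, map_smul]
      obtain ⟨v₀, hv₀⟩ := exists_anisotropic X.nd₁ (by simp)
      have hbq : ∀ w, q₂ ((ν • ψ) w) = q₂ w := fun w => by
        have h := Q_app g (τ v₀ w)
        rw [hg''] at h
        have h1 := X.q_τ (app a v₀) (ν • ψ w)
        rw [Q_app] at h1
        exact mul_left_cancel₀ (mul_ne_zero h2 hv₀) (h1.symm.trans (h.trans (X.q_τ v₀ w)))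
      have hbi : Function.Injective (ν • ψ) := fun w w' h => by
        have hz : app g (τ v₀ (w - w')) = 0 := by
          rw [hg'']
          show τ (app a v₀) ((ν • ψ) (w - w')) = 0
          rw [map_sub, h, sub_self, map_zero]
        exact sub_eq_zero.1 (X.τ_inj_right (fun h0 => hv₀ (by rw [h0, QuadraticMap.map_zero]))
          (app_injective g (hz.trans (map_zero _).symm)))
      refine ⟨(a, CfsgLib.OrthOmega.ofEquiv (LinearEquiv.ofInjectiveEndo (ν • ψ) hbi) fun w => hbq w),
        X.ext_O fun v w => ?_⟩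
      rw [X.app_emb]
      show τ _ _ = app g (τ v w)
      rw [hg'']
      exact congrArg (τ (app a v)) (CfsgLib.OrthOmega.app_ofEquiv (Q := q₂)
        (LinearEquiv.ofInjectiveEndo (ν • ψ) hbi) (fun w => hbq w) w)
    · rintro ⟨⟨a, b⟩, rfl⟩
      let K : GL (Fin 3 × Fin 4) F :=
        { val := ((a : GL (Fin 3) F) : Matrix (Fin 3) (Fin 3) F) ⊗ₖ ((b : GL (Fin 4) F) : Matrix (Fin 4) (Fin 4) F)
          inv := ((a⁻¹ : O q₁) : GL (Fin 3) F).val ⊗ₖ ((b⁻¹ : O q₂) : GL (Fin 4) F).val
          val_inv := by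
            rw [← Matrix.mul_kronecker_mul, ← Units.val_mul, ← Units.val_mul, ← Subgroup.coe_mul,
              ← Subgroup.coe_mul, mul_inv_cancel, mul_inv_cancel, OneMemClass.coe_one, OneMemClass.coe_one,
              Units.val_one, Units.val_one, Matrix.one_kronecker_one]
          inv_val := by
            rw [← Matrix.mul_kronecker_mul, ← Units.val_mul, ← Units.val_mul, ← Subgroup.coe_mul,
              ← Subgroup.coe_mul, inv_mul_cancel, inv_mul_cancel, OneMemClass.coe_one, OneMemClass.coe_one,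
              Units.val_one, Units.val_one, Matrix.one_kronecker_one] }
      have hK : (X.emb (a, b) : GL (Fin 12) F) = Φ K := by
        refine Units.ext (Matrix.toLin'.injective (X.ext_τ fun v w => ?_))
        show app (X.emb (a, b)) (τ v w) = (Φ K).val *ᵥ τ v w
        rw [X.app_emb]
        show τ (app a v) (app b w) = _
        rw [hτ, hτ, hΦ, kronecker_mulVec_pure]
        rfl
      rw [hK]
      exact Subgroup.mem_map_of_mem _ (Subgroup.mem_map_of_mem _ ⟨_, _, rfl⟩)
  have hH : Cfsg.Geo.tensorProductSubgroup 3 4 e P ⊓ Cfsg.Geo.omegaGL Q = X.H.map i := by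
    ext g
    rw [hΩ]
    constructor
    · rintro ⟨hg, x, hx, rfl⟩
      exact ⟨x, ⟨(hTmem x hx).1 hg, hx⟩, rfl⟩
    · rintro ⟨x, hx, rfl⟩
      exact ⟨(hTmem x hx.2).2 hx.1, x, hx.2, rfl⟩
  have hmax := X.maximal
  rw [hH, hΩ]
  refine ⟨lt_of_le_of_ne (Subgroup.map_mono hmax.1.le) fun h => hmax.1.ne (Subgroup.map_injective hinj h),
    fun M h1 h3 => ?_⟩
  have h4 : M = (M.comap i).map i := by
    rw [Subgroup.map_comap_eq, inf_eq_right.2 (h3.trans (Subgroup.map_le_range i _))]
  rcases hmax.2 (M.comap i) (Subgroup.map_le_iff_le_comap.1 h1)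
    (by rw [← Subgroup.map_le_map_iff_of_injective hinj, ← h4]; exact h3) with h' | h'
  · left; rw [h4, h']
  · right; rw [h4, h']

end CfsgLib.TensorMinus
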